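import Cfsg.Agent.Lib.RankOne.Involution

/-!
# The split rank-one set-up

Elementary consequences of `Cfsg.IsRankOneSetup`.
-/

namespace Cfsg.Agent.Lib.RankOne.Basic

open Cfsg.Agent.Lib.RankOne.Involution MulAction

variable {G Ω : Type*} [Group G] [MulAction G Ω] {a : Ω} {t : G} {Q : Subgroup G}

/-- The two-point stabiliser of the set-up. -/
abbrev twoStab (G : Type*) {Ω : Type*} [Group G] [MulAction G Ω] (a : Ω) (t : G) : Subgroup G :=
  stabilizer G a ⊓ stabilizer G (t • a)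

theorem mem_twoStab {d : G} :
    d ∈ twoStab G a t ↔ d • a = a ∧ d • (t • a) = t • a := Iff.rfl

variable (hS : Cfsg.IsRankOneSetup G Ω a t Q)
include hS

theorem t_inv : t⁻¹ = t := inv_eq_self_of_sq hS.mul_self

theorem t_smul_ne : t • a ≠ a := hS.not_mem

theorem tt_smul (c : Ω) : t • t • c = c := by rw [← mul_smul, hS.mul_self, one_smul]

theorem tt_mul (g : G) : t * (t * g) = g := by rw [← mul_assoc, hS.mul_self, one_mul]

theorem pretransitive : MulAction.IsPretransitive G Ω := by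
  have := hS.two_transitive
  exact MulAction.isPretransitive_of_is_two_pretransitive

theorem exists_pair {b c d e : Ω} (h : b ≠ c) (h' : d ≠ e) : ∃ g : G, g • b = d ∧ g • c = e :=
  MulAction.is_two_pretransitive_iff.1 hS.two_transitive h h'

theorem finiteOmega [Finite G] : Finite Ω :=
  Finite.of_surjective (fun g : G => g • a) fun c => (pretransitive hS).exists_smul_eq a c

theorem Q_fix {x : G} (hx : x ∈ Q) : x • a = a := hS.le hx

theorem Q_inv_fix {x : G} (hx : x ∈ Q) : x⁻¹ • a = a := Q_fix hS (Q.inv_mem hx)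

theorem Q_free {x : G} (hx : x ∈ Q) {c : Ω} (hc : c ≠ a) (h : x • c = c) : x = 1 := by
  obtain ⟨g, hga, hgc⟩ := exists_pair hS hc.symm (t_smul_ne hS).symm
  have h1 : g * x * g⁻¹ ∈ Q := hS.conj_mem g hga x hx
  have h2 : g * x * g⁻¹ ∈ stabilizer G (t • a) := by
    rw [mem_stabilizer_iff, mul_smul, mul_smul, ← hgc, inv_smul_smul, h]
  have h3 : g * x * g⁻¹ ∈ Q ⊓ stabilizer G (t • a) := ⟨h1, h2⟩
  rw [hS.inf_eq_bot, Subgroup.mem_bot] at h3
  simpa using h3

theorem Q_smul_inj {x y : G} (hx : x ∈ Q) (hy : y ∈ Q) {c : Ω} (hc : c ≠ a)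
    (h : x • c = y • c) : x = y := by
  have := Q_free hS (Q.mul_mem (Q.inv_mem hy) hx) hc (by rw [mul_smul, h, inv_smul_smul])
  exact (inv_mul_eq_one.1 this).symm

theorem twoStab_norm {d x : G} (hd : d ∈ twoStab G a t) (hx : x ∈ Q) : d * x * d⁻¹ ∈ Q :=
  hS.conj_mem d hd.1 x hx

theorem twoStab_norm' {d x : G} (hd : d ∈ twoStab G a t) (hx : x ∈ Q) : d⁻¹ * x * d ∈ Q := by
  simpa using twoStab_norm hS ((twoStab G a t).inv_mem hd) hx

theorem exists_Q_D {g : G} (hg : g • a = a) :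
    ∃ q ∈ Q, ∃ d ∈ twoStab G a t, g = q * d := by
  have hle : twoStab G a t ≤ Subgroup.normalizer (Q : Set G) := fun d hd => by
    rw [Subgroup.mem_normalizer_iff]
    refine fun x => ⟨fun hx => twoStab_norm hS hd hx, fun hx => ?_⟩
    simpa [mul_assoc] using twoStab_norm' hS hd hx
  have h : g ∈ ((Q ⊔ twoStab G a t : Subgroup G) : Set G) := by
    rw [hS.sup_eq]; exact hg
  rw [Subgroup.coe_mul_of_right_le_normalizer_left _ _ hle] at h
  obtain ⟨q, hq, d, hd, rfl⟩ := Set.mem_mul.1 h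
  exact ⟨q, hq, d, hd, rfl⟩

theorem Q_D_unique {q q' d d' : G} (hq : q ∈ Q) (hq' : q' ∈ Q) (hd : d ∈ twoStab G a t)
    (hd' : d' ∈ twoStab G a t) (h : q * d = q' * d') : q = q' ∧ d = d' := by
  have h1 : q • (t • a) = q' • (t • a) := by
    have := congrArg (fun g : G => g • (t • a)) h
    simpa [mul_smul, (mem_twoStab.1 hd).2, (mem_twoStab.1 hd').2] using this
  have := Q_smul_inj hS hq hq' (t_smul_ne hS) h1
  subst this
  exact ⟨rfl, mul_left_cancel h⟩

theorem Q_trans {c d : Ω} (hc : c ≠ a) (hd : d ≠ a) : ∃ x ∈ Q, x • c = d := by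
  have aux : ∀ e : Ω, e ≠ a → ∃ x ∈ Q, x • (t • a) = e := by
    intro e he
    obtain ⟨g, hga, hgb⟩ := exists_pair hS (t_smul_ne hS).symm he.symm
    obtain ⟨q, hq, d', hd', rfl⟩ := exists_Q_D hS hga
    exact ⟨q, hq, by rwa [mul_smul, (mem_twoStab.1 hd').2] at hgb⟩
  obtain ⟨x, hx, rfl⟩ := aux c hc
  obtain ⟨y, hy, rfl⟩ := aux d hd
  exact ⟨y * x⁻¹, Q.mul_mem hy (Q.inv_mem hx), by rw [mul_smul, inv_smul_smul]⟩

theorem Q_existsUnique {c d : Ω} (hc : c ≠ a) (hd : d ≠ a) :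
    ∃! x : Q, (x : G) • c = d := by
  obtain ⟨x, hx, h⟩ := Q_trans hS hc hd
  exact ⟨⟨x, hx⟩, h, fun y hy => Subtype.ext (Q_smul_inj hS y.2 hx hc (hy.trans h.symm))⟩

theorem card_omega [Finite G] : Nat.card Ω = Nat.card Q + 1 := by
  have := finiteOmega hS
  let e : Q ≃ {c : Ω // c ≠ a} :=
    Equiv.ofBijective (fun x => ⟨(x : G) • (t • a), fun h => t_smul_ne hS
      (smul_left_cancel (x : G) (h.trans (Q_fix hS x.2).symm))⟩)
      ⟨fun x y h => Subtype.ext (Q_smul_inj hS x.2 y.2 (t_smul_ne hS)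
          (congrArg Subtype.val h)), fun c => by
        obtain ⟨x, hx, h⟩ := Q_trans hS (t_smul_ne hS) c.2
        exact ⟨⟨x, hx⟩, Subtype.ext h⟩⟩
  classical
  rw [Nat.card_congr e, ← Nat.card_congr (Equiv.optionSubtypeNe a), Finite.card_option]

theorem card_stab [Finite G] :
    Nat.card (stabilizer G a) = Nat.card Q * Nat.card (twoStab G a t) := by
  rw [← Nat.card_prod]
  symm
  apply Nat.card_congr
  refine Equiv.ofBijective (fun p => ⟨(p.1 : G) * p.2, (stabilizer G a).mul_mem (hS.le p.1.2) p.2.2.1⟩)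
    ⟨fun p p' h => ?_, fun g => ?_⟩
  · obtain ⟨h1, h2⟩ := Q_D_unique hS p.1.2 p'.1.2 p.2.2 p'.2.2 (congrArg Subtype.val h)
    exact Prod.ext (Subtype.ext h1) (Subtype.ext h2)
  · obtain ⟨q, hq, d, hd, h⟩ := exists_Q_D hS g.2
    exact ⟨(⟨q, hq⟩, ⟨d, hd⟩), Subtype.ext h.symm⟩

theorem card_group [Finite G] :
    Nat.card G = Nat.card Q * Nat.card (twoStab G a t) * (Nat.card Q + 1) := by
  have := pretransitive hS
  rw [← card_omega hS, ← index_stabilizer_of_transitive G a, ← card_stab hS]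
  exact (Subgroup.card_mul_index _).symm

/-! ### Conjugation by `t` on the two-point stabiliser -/

theorem t_conj_mem {d : G} (hd : d ∈ twoStab G a t) : t * d * t ∈ twoStab G a t := by
  obtain ⟨h1, h2⟩ := mem_twoStab.1 hd
  rw [mem_twoStab, mul_smul, mul_smul, mul_smul, mul_smul, tt_smul hS, h1, h2, tt_smul hS]
  exact ⟨rfl, rfl⟩

theorem t_conj_mem' {d : G} (hd : d ∈ twoStab G a t) : t * d * t⁻¹ ∈ twoStab G a t := by
  rw [t_inv hS]; exact t_conj_mem hS hd

theorem mem_invertedBy_iff {k : G} :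
    k ∈ Cfsg.invertedBy (twoStab G a t) t ↔ k ∈ twoStab G a t ∧ t * k * t = k⁻¹ := by
  simp [Cfsg.invertedBy, t_inv hS]

theorem invertedBy_inv {k : G} (hk : k ∈ Cfsg.invertedBy (twoStab G a t) t) :
    k⁻¹ ∈ Cfsg.invertedBy (twoStab G a t) t := by
  obtain ⟨h1, h2⟩ := hk
  refine ⟨(twoStab G a t).inv_mem h1, ?_⟩
  rw [← conj_inv, h2]

theorem exists_CK {d : G} (hd : d ∈ twoStab G a t) :
    ∃ c ∈ twoStab G a t, ∃ k ∈ Cfsg.invertedBy (twoStab G a t) t,
      t * c * t⁻¹ = c ∧ d = c * k := by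
  obtain ⟨c, hc, i, hi, h1, h2, h3⟩ :=
    exists_decomp hS.odd_card hS.mul_self (fun x hx => t_conj_mem' hS hx) hd
  exact ⟨c, hc, i, ⟨hi, h2⟩, h1, h3⟩

theorem exists_sqrtK {k : G} (hk : k ∈ Cfsg.invertedBy (twoStab G a t) t) :
    ∃ e ∈ Cfsg.invertedBy (twoStab G a t) t, e * e = k ∧ ∃ n : ℕ, e = k ^ n := by
  obtain ⟨e, he, hee, n, hn⟩ := exists_sqrt hS.odd_card hk.1
  refine ⟨e, ⟨he, ?_⟩, hee, n, hn⟩
  rw [hn, ← conj_pow, hk.2, inv_pow]

/-- `t e = e⁻¹ t` for inverted `e`. -/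
theorem t_mul_inverted {e : G} (he : e ∈ Cfsg.invertedBy (twoStab G a t) t) :
    t * e = e⁻¹ * t := by
  have := he.2
  rwa [mul_inv_eq_iff_eq_mul] at this

theorem centralizer_t_iff {d : G} :
    d ∈ twoStab G a t ⊓ Subgroup.centralizer {t} ↔ d ∈ twoStab G a t ∧ t * d * t⁻¹ = d := by
  rw [Subgroup.mem_inf, Subgroup.mem_centralizer_singleton_iff, mul_inv_eq_iff_eq_mul]
  tauto

/-! ### Involutions -/

variable [Finite G]

theorem involutions_stab_mem_Q {s : G} (hs : s • a = a) (hs2 : s * s = 1) : s ∈ Q := by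
  obtain ⟨q, hq, d, hd, rfl⟩ := exists_Q_D hS hs
  have h1 : q * (d * q * d⁻¹) ∈ Q := Q.mul_mem hq (twoStab_norm hS hd hq)
  have h2 := Q_D_unique hS h1 Q.one_mem ((twoStab G a t).mul_mem hd hd) (twoStab G a t).one_mem
    (by rw [one_mul, ← hs2]; group)
  rw [eq_one_of_sq hS.odd_card hd h2.2, mul_one]
  exact hq

theorem involution_fix_a {s : G} (hs : s ∈ Cfsg.involutionsIn (stabilizer G a : Set G))
    {c : Ω} (hc : s • c = c) : c = a := by
  by_contra hne
  exact hs.2.1 (Q_free hS (involutions_stab_mem_Q hS hs.1 hs.2.2) hne hc)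

theorem exists_involution :
    ∃ s, s ∈ Cfsg.involutionsIn (stabilizer G a : Set G) := by
  obtain ⟨x, hx⟩ := exists_prime_orderOf_dvd_card' (G := Q) 2 hS.even_card.two_dvd
  refine ⟨x, hS.le x.2, fun h => ?_, ?_⟩
  · rw [← orderOf_eq_one_iff, Subgroup.orderOf_coe, hx] at h
    norm_num at h
  · have := pow_orderOf_eq_one x
    rw [hx, sq] at this
    exact congrArg Subtype.val this

theorem odd_orderOf_mul {s u : G} (hs : s ∈ Cfsg.involutionsIn (stabilizer G a : Set G))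
    (hu : u * u = 1) (hua : u • a ≠ a) : Odd (orderOf (s * u)) := by
  rw [← Nat.not_even_iff_odd]
  rintro ⟨m, hm⟩
  set z := (s * u) ^ m with hz
  have hn := orderOf_pos (s * u)
  have hz1 : z ≠ 1 := fun h => by
    have := Nat.le_of_dvd (by omega) (orderOf_dvd_of_pow_eq_one h)
    omega
  have hz2 : z * z = 1 := by rw [hz, ← pow_add, ← hm, pow_orderOf_eq_one]
  have hsi := inv_eq_self_of_sq hs.2.2
  have hui := inv_eq_self_of_sq hu
  have hzi := inv_eq_self_of_sq hz2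
  have hsz : s * z * s⁻¹ = z := by
    conv_rhs => rw [← hzi]
    rw [hz, ← conj_pow, ← inv_pow]
    congr 1
    calc s * (s * u) * s⁻¹ = (s * s) * u * s⁻¹ := by group
      _ = (s * u)⁻¹ := by rw [hs.2.2, mul_inv_rev, hui, one_mul]
  have huz : u * z * u⁻¹ = z := by
    conv_rhs => rw [← hzi]
    rw [hz, ← conj_pow, ← inv_pow]
    congr 1
    calc u * (s * u) * u⁻¹ = u * s := by group
      _ = (s * u)⁻¹ := by rw [mul_inv_rev, hsi, hui]
  rw [mul_inv_eq_iff_eq_mul] at hsz huz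
  have hza : z • a = a := involution_fix_a hS hs (by rw [← mul_smul, hsz, mul_smul, show s • a = a from hs.1])
  apply hua
  refine involution_fix_a hS (s := z) ⟨hza, hz1, hz2⟩ ?_
  rw [← mul_smul, ← huz, mul_smul, hza]

theorem exists_fixed {u : G} (hu1 : u ≠ 1) (hu : u * u = 1) :
    ∃ c : Ω, u • c = c ∧ ∀ d : Ω, u • d = d → d = c := by
  obtain ⟨s, hs⟩ := exists_involution hS
  by_cases hua : u • a = a
  · exact ⟨a, hua, fun d hd => involution_fix_a hS ⟨hua, hu1, hu⟩ hd⟩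
  · obtain ⟨w, -, hw, hws, hwu, -⟩ :=
      exists_swap hs.2.2 hs.2.1 hu (odd_orderOf_mul hS hs hu hua)
    have hww : ∀ c : Ω, w • w • c = c := fun c => by rw [← mul_smul, hw, one_smul]
    refine ⟨w • a, ?_, fun d hd => ?_⟩
    · rw [← hws, mul_smul, mul_smul, hww, show s • a = a from hs.1]
    · have h1 : s • (w • d) = w • d := by
        rw [← hwu, mul_smul, mul_smul, hww, hd]
      rw [← involution_fix_a hS hs h1, hww]

theorem all_conj {u v : G} (hu1 : u ≠ 1) (hu : u * u = 1) (hv1 : v ≠ 1) (hv : v * v = 1) :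
    ∃ g : G, g * u * g⁻¹ = v := by
  obtain ⟨s, hs⟩ := exists_involution hS
  have out : ∀ x : G, x * x = 1 → x • a ≠ a → ∀ y ∈ Cfsg.involutionsIn (stabilizer G a : Set G),
      ∃ g : G, g * y * g⁻¹ = x := fun x hx hxa y hy => by
    obtain ⟨w, -, hw, hws, -, -⟩ :=
      exists_swap hy.2.2 hy.2.1 hx (odd_orderOf_mul hS hy hx hxa)
    exact ⟨w, by rw [inv_eq_self_of_sq hw, hws]⟩
  have all : ∀ x : G, x ≠ 1 → x * x = 1 → ∃ g : G, g * x * g⁻¹ = t := by
    intro x hx1 hx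
    by_cases hxa : x • a = a
    · exact out t hS.mul_self (t_smul_ne hS) x ⟨hxa, hx1, hx⟩
    · obtain ⟨g, hg⟩ := out x hx hxa s hs
      obtain ⟨g', hg'⟩ := out t hS.mul_self (t_smul_ne hS) s hs
      exact ⟨g' * g⁻¹, by rw [← hg, ← hg']; group⟩
  obtain ⟨g, hg⟩ := all u hu1 hu
  obtain ⟨g', hg'⟩ := all v hv1 hv
  exact ⟨g'⁻¹ * g, by rw [← hg'] at hg; rw [show g'⁻¹ * g * u * (g'⁻¹ * g)⁻¹ = g'⁻¹ * (g * u * g⁻¹) * g' by group, hg]; group⟩

/-- The bijection between inverted elements and involutions of `G_a`. -/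
theorem existsUnique_K {s s' : G} (hs : s ∈ Cfsg.involutionsIn (stabilizer G a : Set G))
    (hs' : s' ∈ Cfsg.involutionsIn (stabilizer G a : Set G)) :
    ∃! k, k ∈ Cfsg.invertedBy (twoStab G a t) t ∧ k * s * k⁻¹ = s' := by
  set w := t * s' * t with hw
  have htw : ∀ x : G, t * x * t * (t * x * t) = t * (x * x) * t := fun x => by
    calc t * x * t * (t * x * t) = t * x * (t * t) * x * t := by group
      _ = _ := by rw [hS.mul_self]; group
  have hw2 : w * w = 1 := by rw [hw, htw, hs'.2.2, mul_one, hS.mul_self]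
  have hw1 : w ≠ 1 := fun h => hs'.2.1 (by
    rw [show s' = t * w * t by rw [hw]; simp [mul_assoc, tt_mul hS, hS.mul_self], h, mul_one,
      hS.mul_self])
  have hwb : w • (t • a) = t • a := by
    rw [hw, mul_smul, mul_smul, tt_smul hS, show s' • a = a from hs'.1]
  have hwfix : ∀ c, w • c = c → c = t • a := fun c hc => by
    have : s' • (t • c) = t • c := by
      conv_rhs => rw [← hc, hw, mul_smul, mul_smul, tt_smul hS]
    rw [← involution_fix_a hS hs' this, tt_smul hS]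
  have hwa : w • a ≠ a := fun h => t_smul_ne hS (hwfix a h).symm
  obtain ⟨u, hu1, hu, hus, huw, hucomm⟩ :=
    exists_swap hs.2.2 hs.2.1 hw2 (odd_orderOf_mul hS hs hw2 hwa)
  have huu : ∀ c : Ω, u • u • c = c := fun c => by rw [← mul_smul, hu, one_smul]
  have hua : u • a = t • a := hwfix _ (by
    rw [← hus, mul_smul, mul_smul, huu, show s • a = a from hs.1])
  have hub : u • (t • a) = a := by rw [← hua, huu]
  have hk : t * u ∈ Cfsg.invertedBy (twoStab G a t) t := by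
    refine (mem_invertedBy_iff hS).2 ⟨?_, ?_⟩
    · rw [mem_twoStab, mul_smul, mul_smul, hua, hub, tt_smul hS]; exact ⟨rfl, rfl⟩
    · calc t * (t * u) * t = u * t := by rw [tt_mul hS]
        _ = (t * u)⁻¹ := by rw [mul_inv_rev, inv_eq_self_of_sq hu, t_inv hS]
  have hks : t * u * s * (t * u)⁻¹ = s' := by
    calc t * u * s * (t * u)⁻¹ = t * (u * s * u⁻¹) * t⁻¹ := by group
      _ = t * w * t := by rw [inv_eq_self_of_sq hu, hus, t_inv hS]
      _ = s' := by rw [hw]; simp [mul_assoc, tt_mul hS, hS.mul_self]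
  refine ⟨t * u, ⟨hk, hks⟩, ?_⟩
  rintro k ⟨hkK, hks'⟩
  obtain ⟨v, hvdef⟩ : ∃ v, v = t * k := ⟨_, rfl⟩
  have hv : v * v = 1 := by
    rw [hvdef, show t * k * (t * k) = (t * k * t) * k by group, ((mem_invertedBy_iff hS).1 hkK).2]
    group
  have hvi := inv_eq_self_of_sq hv
  have hui := inv_eq_self_of_sq hu
  have hvs : v * s * v = w := by
    calc v * s * v = v * s * v⁻¹ := by rw [hvi]
      _ = t * (k * s * k⁻¹) * t⁻¹ := by rw [hvdef]; group
      _ = w := by rw [hks', hw, t_inv hS]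
  have hvv : ∀ g, v * (v * g) = g := fun g => by rw [← mul_assoc, hv, one_mul]
  have huuG : ∀ g, u * (u * g) = g := fun g => by rw [← mul_assoc, hu, one_mul]
  have hvw : v * w * v = s := by
    rw [← hvs]; simp [mul_assoc, hvv, hv]
  set y := v * u with hy
  have hys : Commute y s := by
    show y * s = s * y
    calc y * s = v * (u * s * u) * u := by rw [hy]; simp [mul_assoc, hu, huuG]
      _ = v * w * u := by rw [hus]
      _ = v * w * v * (v * u) := by simp [mul_assoc, hvv]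
      _ = s * y := by rw [hvw]
  have hyw : Commute y w := by
    show y * w = w * y
    calc y * w = v * (u * w * u) * u := by rw [hy]; simp [mul_assoc, hu, huuG]
      _ = v * s * u := by rw [huw]
      _ = v * s * v * (v * u) := by simp [mul_assoc, hvv]
      _ = w * y := by rw [hvs]
  have hyu := hucomm y hys hyw
  have hyD : y ∈ twoStab G a t := by
    obtain ⟨hk1, hk2⟩ := mem_twoStab.1 hkK.1
    rw [mem_twoStab, hy, hvdef, mul_smul, mul_smul, mul_smul, mul_smul, hua, hub, hk2, hk1, tt_smul hS]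
    exact ⟨rfl, rfl⟩
  have hy2 : y * y = 1 := by
    have h1 : v * u * u = u * (v * u) := hyu.eq
    have h2 : v = u * v * u := by
      calc v = v * u * u := by simp [mul_assoc, hu]
        _ = u * v * u := by rw [h1, mul_assoc]
    calc y * y = v * (u * v * u) := by rw [hy]; group
      _ = 1 := by rw [← h2, hv]
  have := eq_one_of_sq hS.odd_card hyD hy2
  have hvu : v = u := by
    calc v = v * u * u := by simp [mul_assoc, hu]
      _ = u := by rw [← hy, this, one_mul]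
  rw [← hvu, hvdef, tt_mul hS]

theorem inverted_conj_mem {s k : G} (hs : s ∈ Cfsg.involutionsIn (stabilizer G a : Set G))
    (hk : k ∈ stabilizer G a) : k * s * k⁻¹ ∈ Cfsg.involutionsIn (stabilizer G a : Set G) := by
  refine ⟨(stabilizer G a).mul_mem ((stabilizer G a).mul_mem hk hs.1) ((stabilizer G a).inv_mem hk),
    fun h => hs.2.1 (by simpa using h), ?_⟩
  rw [show k * s * k⁻¹ * (k * s * k⁻¹) = k * (s * s) * k⁻¹ by group, hs.2.2, mul_one,
    mul_inv_cancel]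

theorem card_invertedBy :
    Nat.card (Cfsg.invertedBy (twoStab G a t) t) =
      Nat.card (Cfsg.involutionsIn (stabilizer G a : Set G)) := by
  obtain ⟨s, hs⟩ := exists_involution hS
  refine Nat.card_eq_of_bijective (fun k => ⟨k.1 * s * k.1⁻¹, inverted_conj_mem hS hs k.2.1.1⟩)
    ⟨fun k l h => Subtype.ext ?_, fun s' => ?_⟩
  · exact (existsUnique_K hS hs (inverted_conj_mem hS hs l.2.1.1)).unique
      ⟨k.2, congrArg Subtype.val h⟩ ⟨l.2, rfl⟩
  · obtain ⟨k, ⟨hk, h⟩, -⟩ := existsUnique_K hS hs s'.2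
    exact ⟨⟨k, hk⟩, Subtype.ext h⟩

/-- An involution moving `a` is `r⁻¹ (t k) r` with `r ∈ Q` and `k` inverted. -/
theorem exists_rk {w : G} (hw : w * w = 1) (hwa : w • a ≠ a) :
    ∃ r ∈ Q, ∃ k ∈ Cfsg.invertedBy (twoStab G a t) t, w = r⁻¹ * (t * k) * r := by
  obtain ⟨r, hr, hrw⟩ := Q_trans hS hwa (t_smul_ne hS)
  have hra := Q_fix hS hr
  have hra' := Q_inv_fix hS hr
  obtain ⟨u, hu⟩ : ∃ u, u = r * w * r⁻¹ := ⟨_, rfl⟩
  have hu2 : u * u = 1 := by
    rw [hu, show r * w * r⁻¹ * (r * w * r⁻¹) = r * (w * w) * r⁻¹ by group, hw, mul_one, mul_inv_cancel]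
  have hua : u • a = t • a := by rw [hu, mul_smul, mul_smul, hra', hrw]
  have hub : u • (t • a) = a := by rw [← hua, ← mul_smul, hu2, one_smul]
  refine ⟨r, hr, t * u, (mem_invertedBy_iff hS).2 ⟨?_, ?_⟩, ?_⟩
  · rw [mem_twoStab, mul_smul, mul_smul, hua, hub, tt_smul hS]; exact ⟨rfl, rfl⟩
  · calc t * (t * u) * t = u * t := by rw [tt_mul hS]
      _ = (t * u)⁻¹ := by rw [mul_inv_rev, inv_eq_self_of_sq hu2, t_inv hS]
  · rw [tt_mul hS, hu]; group

theorem rk_unique {r r' k k' : G} (hr : r ∈ Q) (hr' : r' ∈ Q) (hk : k ∈ twoStab G a t)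
    (hk' : k' ∈ twoStab G a t) (h : r⁻¹ * (t * k) * r = r'⁻¹ * (t * k') * r') :
    r = r' ∧ k = k' := by
  have h1 : r⁻¹ • (t • a) = r'⁻¹ • (t • a) := by
    have := congrArg (fun g : G => g • a) h
    simpa [mul_smul, Q_fix hS hr, Q_fix hS hr', (mem_twoStab.1 hk).1, (mem_twoStab.1 hk').1] using this
  have h2 := inv_injective (Q_smul_inj hS (Q.inv_mem hr) (Q.inv_mem hr') (t_smul_ne hS) h1)
  subst h2
  exact ⟨rfl, mul_left_cancel (mul_left_cancel (mul_right_cancel h))⟩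

/-- The structure equation. -/
theorem structure_equation :
    ∃! p : G × G, p.1 ∈ Cfsg.involutionsIn (stabilizer G a : Set G) ∧ p.2 ∈ Q ∧
      t * p.1 * t = p.2⁻¹ * t * p.2 := by
  obtain ⟨s₀, hs₀⟩ := exists_involution hS
  have hw : t * s₀ * t * (t * s₀ * t) = 1 := by
    calc t * s₀ * t * (t * s₀ * t) = t * s₀ * (t * t) * s₀ * t := by group
      _ = t * (s₀ * s₀) * t := by rw [hS.mul_self]; group
      _ = 1 := by rw [hs₀.2.2, mul_one, hS.mul_self]
  have hwa : (t * s₀ * t) • a ≠ a := fun h => t_smul_ne hS (involution_fix_a hS hs₀ (by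
    rw [mul_smul, mul_smul] at h
    conv_rhs => rw [← h, tt_smul hS]))
  obtain ⟨r₀, hr₀, k, hk, heq⟩ := exists_rk hS hw hwa
  obtain ⟨e, he, hee, -⟩ := exists_sqrtK hS hk
  have key : ∀ d ∈ Cfsg.invertedBy (twoStab G a t) t,
      t * (d * s₀ * d⁻¹) * t =
        (d⁻¹ * r₀ * d)⁻¹ * (t * (d * k * d)) * (d⁻¹ * r₀ * d) := by
    intro d hd
    have h1 := t_mul_inverted hS hd
    have h2 : d⁻¹ * t = t * d := h1.symm
    have h3 : d⁻¹ * (t * k) * d = t * (d * k * d) := by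
      rw [← mul_assoc, h2]; group
    have h4 : d * t = t * d⁻¹ := by
      have := t_mul_inverted hS (invertedBy_inv hS hd); rw [inv_inv] at this; exact this.symm
    calc t * (d * s₀ * d⁻¹) * t = (t * d) * s₀ * (d⁻¹ * t) := by group
      _ = (d⁻¹ * t) * s₀ * (t * d) := by rw [← h1, ← h2]
      _ = d⁻¹ * (t * s₀ * t) * d := by group
      _ = d⁻¹ * (r₀⁻¹ * (t * k) * r₀) * d := by rw [heq]
      _ = (d⁻¹ * r₀ * d)⁻¹ * (d⁻¹ * (t * k) * d) * (d⁻¹ * r₀ * d) := by group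
      _ = _ := by rw [h3]
  have hei := invertedBy_inv hS he
  refine ⟨(e⁻¹ * s₀ * e, e * r₀ * e⁻¹), ⟨?_, twoStab_norm hS he.1 hr₀, ?_⟩, ?_⟩
  · simpa using inverted_conj_mem hS hs₀ hei.1.1
  · have := key e⁻¹ hei
    rw [inv_inv, show e⁻¹ * k * e⁻¹ = 1 by rw [← hee]; group, mul_one] at this
    exact this
  · rintro ⟨s', r'⟩ ⟨hs', hr', h⟩
    obtain ⟨d, ⟨hd, rfl⟩, -⟩ := existsUnique_K hS hs₀ hs'
    have h' := key d hd
    rw [h] at h'
    have hdr : d⁻¹ * r₀ * d ∈ Q := twoStab_norm' hS hd.1 hr₀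
    obtain ⟨hr, hdk⟩ := rk_unique hS hr' hdr (twoStab G a t).one_mem
      ((twoStab G a t).mul_mem ((twoStab G a t).mul_mem hd.1 hk.1) hd.1) (by rw [mul_one]; exact h')
    have hde : d = e⁻¹ := by
      have hsq : (d * k) * (d * k) = k := by
        calc d * k * (d * k) = (d * k * d) * k := by group
          _ = k := by rw [← hdk, one_mul]
      have := eq_of_sq_eq hS.odd_card ((twoStab G a t).mul_mem hd.1 hk.1) he.1 (hsq.trans hee.symm)
      calc d = d * k * k⁻¹ := by group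
        _ = e * (e * e)⁻¹ := by rw [this, hee]
        _ = e⁻¹ := by group
    simp only at hr
    simp [hr, hde, mul_assoc]

/-- `C_D(t) = C_D(s)` for the involution `s` of the structure equation. -/
theorem centralizer_t_eq {s r : G} (hs : s ∈ Cfsg.involutionsIn (stabilizer G a : Set G))
    (hr : r ∈ Q) (h : t * s * t = r⁻¹ * t * r) {d : G} (hd : d ∈ twoStab G a t) :
    t * d * t⁻¹ = d ↔ d * s * d⁻¹ = s := by
  have fwd : ∀ c ∈ twoStab G a t, t * c * t⁻¹ = c → c * s * c⁻¹ = s := by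
    intro c hc hct
    have hct' : t * c = c * t := mul_inv_eq_iff_eq_mul.1 hct
    have hct'' : t * c⁻¹ = c⁻¹ * t := (Commute.inv_right hct').eq
    have h' : t * (c * s * c⁻¹) * t = (c * r * c⁻¹)⁻¹ * t * (c * r * c⁻¹) := by
      calc t * (c * s * c⁻¹) * t = (t * c) * s * (c⁻¹ * t) := by group
        _ = c * (t * s * t) * c⁻¹ := by rw [hct', ← hct'']; group
        _ = c * r⁻¹ * (t * r) * c⁻¹ := by rw [h]; group
        _ = c * r⁻¹ * c⁻¹ * (c * t) * r * c⁻¹ := by group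
        _ = _ := by rw [← hct']; group
    exact congrArg Prod.fst ((structure_equation hS).unique
      (y₁ := (c * s * c⁻¹, c * r * c⁻¹)) (y₂ := (s, r))
      ⟨inverted_conj_mem hS hs hc.1, twoStab_norm hS hc hr, h'⟩ ⟨hs, hr, h⟩)
  refine ⟨fwd d hd, fun hds => ?_⟩
  obtain ⟨c, hc, k, hk, hct, rfl⟩ := exists_CK hS hd
  have h1 := fwd c hc hct
  have h2 : k * s * k⁻¹ = s := by
    have h3 : c * (k * s * k⁻¹) * c⁻¹ = c * s * c⁻¹ := by rw [h1]; exact (by group : _ = c * k * s * (c * k)⁻¹).trans hds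
    exact mul_left_cancel (mul_right_cancel h3)
  have hk1 : k = 1 := (existsUnique_K hS hs hs).unique ⟨hk, h2⟩
    ⟨⟨(twoStab G a t).one_mem, by simp⟩, by simp⟩
  simp [hk1, hct]

/-! ### Fixed points of subsets of the two-point stabiliser -/

/-- The common fixed points of `X`. -/
def fixedSet (X : Set G) (Ω : Type*) [MulAction G Ω] : Set Ω := {c | ∀ x ∈ X, x • c = c}

omit hS [Finite G] in
theorem centralizer_smul_mem {X : Set G} {g : G} (hg : g ∈ Subgroup.centralizer X) {c : Ω}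
    (hc : c ∈ fixedSet X Ω) : g • c ∈ fixedSet X Ω := fun x hx => by
  rw [← mul_smul, Subgroup.mem_centralizer_iff.1 hg x hx, mul_smul, hc x hx]

omit [Finite G] in
theorem centralizer_of_Q_smul {X : Set G} (hX : X ⊆ (twoStab G a t : Set G)) {q : G} (hq : q ∈ Q)
    (h : q • (t • a) ∈ fixedSet X Ω) : q ∈ Subgroup.centralizer X := by
  refine Subgroup.mem_centralizer_iff.2 fun x hx => ?_
  have hxD := hX hx
  have := Q_smul_inj hS (twoStab_norm hS hxD hq) hq (t_smul_ne hS) (by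
    rw [mul_smul, mul_smul, inv_smul_eq_iff.2 (mem_twoStab.1 hxD).2.symm]; exact h x hx)
  exact mul_inv_eq_iff_eq_mul.1 this

omit [Finite G] in
theorem exists_centralizer_trans {X : Set G} (hX : X ⊆ (twoStab G a t : Set G)) {c : Ω} (hca : c ≠ a)
    (hc : c ∈ fixedSet X Ω) : ∃ q ∈ Q, q ∈ Subgroup.centralizer X ∧ q • (t • a) = c := by
  obtain ⟨q, hq, h⟩ := Q_trans hS (t_smul_ne hS) hca
  exact ⟨q, hq, centralizer_of_Q_smul hS hX hq (h ▸ hc), h⟩

omit [Finite G] in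
theorem centralizer_two_trans {X : Set G} (hX : X ⊆ (twoStab G a t : Set G))
    (h3 : ∃ b c d : Ω, b ≠ c ∧ b ≠ d ∧ c ≠ d ∧ ∀ x ∈ X, x • b = b ∧ x • c = c ∧ x • d = d)
    {b₁ b₂ c₁ c₂ : Ω} (h1 : b₁ ∈ fixedSet X Ω) (h2 : b₂ ∈ fixedSet X Ω)
    (h1' : c₁ ∈ fixedSet X Ω) (h2' : c₂ ∈ fixedSet X Ω) (hb : b₁ ≠ b₂) (hc : c₁ ≠ c₂) :
    ∃ g ∈ Subgroup.centralizer X, g • b₁ = c₁ ∧ g • b₂ = c₂ := by
  set b := t • a with hbdef
  have haF : a ∈ fixedSet X Ω := fun x hx => (hX hx).1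
  have hbF : b ∈ fixedSet X Ω := fun x hx => (hX hx).2
  -- a third fixed point
  obtain ⟨e, heF, hea, heb⟩ : ∃ e ∈ fixedSet X Ω, e ≠ a ∧ e ≠ b := by
    obtain ⟨p, q, r, hpq, hpr, hqr, hfix⟩ := h3
    have hp : p ∈ fixedSet X Ω := fun x hx => (hfix x hx).1
    have hq : q ∈ fixedSet X Ω := fun x hx => (hfix x hx).2.1
    have hr : r ∈ fixedSet X Ω := fun x hx => (hfix x hx).2.2
    by_cases h1 : p ≠ a ∧ p ≠ b; · exact ⟨p, hp, h1⟩
    by_cases h2 : q ≠ a ∧ q ≠ b; · exact ⟨q, hq, h2⟩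
    by_cases h3 : r ≠ a ∧ r ≠ b; · exact ⟨r, hr, h3⟩
    grind
  -- transitivity fixing `b`, through conjugation by `t`
  have transB : ∀ c ∈ fixedSet X Ω, c ≠ b → ∃ g ∈ Subgroup.centralizer X, g • b = b ∧ g • a = c := by
    intro c hcF hcb
    obtain ⟨q, hq, hqc⟩ := Q_trans hS (t_smul_ne hS) (c := b) (d := t • c)
      (fun h => hcb (by rw [← tt_smul hS c, h, hbdef]))
    refine ⟨t * q * t, Subgroup.mem_centralizer_iff.2 fun x hx => ?_, ?_, ?_⟩
    · have hxD := t_conj_mem hS (hX hx)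
      have := Q_smul_inj hS (twoStab_norm hS hxD hq) hq (t_smul_ne hS) (by
        rw [mul_smul, mul_smul, inv_smul_eq_iff.2 (mem_twoStab.1 hxD).2.symm, ← hbdef, hqc,
          mul_smul, mul_smul, tt_smul hS, hcF x hx])
      have h' := mul_inv_eq_iff_eq_mul.1 this
      calc x * (t * q * t) = t * (t * x * t * q) * t := by simp [mul_assoc, tt_mul hS]
        _ = t * (q * (t * x * t)) * t := by rw [h']
        _ = t * q * t * x := by simp [mul_assoc, tt_mul hS, hS.mul_self]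
    · rw [hbdef, mul_smul, mul_smul, tt_smul hS, Q_fix hS hq]
    · rw [mul_smul, mul_smul, ← hbdef, hqc, tt_smul hS]
  have transA : ∀ c ∈ fixedSet X Ω, c ≠ a → ∃ g ∈ Subgroup.centralizer X, g • a = a ∧ g • b = c := by
    intro c hcF hca
    obtain ⟨q, hq, hqC, h⟩ := exists_centralizer_trans hS hX hca hcF
    exact ⟨q, hqC, Q_fix hS hq, h⟩
  have fromAB : ∀ u v : Ω, u ∈ fixedSet X Ω → v ∈ fixedSet X Ω → u ≠ v →
      ∃ g ∈ Subgroup.centralizer X, g • a = u ∧ g • b = v := by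
    intro u v hu hv huv
    obtain ⟨g, hg, hgu⟩ : ∃ g ∈ Subgroup.centralizer X, g • a = u := by
      by_cases hub : u = b
      · obtain ⟨g₁, hg₁, -, h₁⟩ := transB e heF heb
        obtain ⟨g₂, hg₂, h₂, h₂'⟩ := transA e heF hea
        refine ⟨g₂⁻¹ * g₁, Subgroup.mul_mem _ (Subgroup.inv_mem _ hg₂) hg₁, ?_⟩
        rw [mul_smul, h₁, ← h₂', inv_smul_smul, hub]
      · obtain ⟨g₁, hg₁, -, h₁⟩ := transB u hu hub
        exact ⟨g₁, hg₁, h₁⟩
    have hv' : g⁻¹ • v ∈ fixedSet X Ω := centralizer_smul_mem (Subgroup.inv_mem _ hg) hv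
    obtain ⟨g', hg', h', h''⟩ := transA (g⁻¹ • v) hv'
      (fun h => huv (by rw [← hgu, ← h, smul_inv_smul]))
    exact ⟨g * g', Subgroup.mul_mem _ hg hg', by rw [mul_smul, h', hgu],
      by rw [mul_smul, h'', smul_inv_smul]⟩
  obtain ⟨g, hg, hg1, hg2⟩ := fromAB b₁ b₂ h1 h2 hb
  obtain ⟨g', hg', hg1', hg2'⟩ := fromAB c₁ c₂ h1' h2' hc
  exact ⟨g' * g⁻¹, Subgroup.mul_mem _ hg' (Subgroup.inv_mem _ hg),
    by rw [mul_smul, ← hg1, inv_smul_smul, hg1'], by rw [mul_smul, ← hg2, inv_smul_smul, hg2']⟩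

/-- A centraliser of a subset of `D` fixing three points contains an involution. -/
theorem exists_centralizer_involution {X : Set G} (hX : X ⊆ (twoStab G a t : Set G))
    (h3 : ∃ b c d : Ω, b ≠ c ∧ b ≠ d ∧ c ≠ d ∧ ∀ x ∈ X, x • b = b ∧ x • c = c ∧ x • d = d) :
    ∃ z ∈ Subgroup.centralizer X, z • a = t • a ∧ z * z = 1 := by
  have haF : a ∈ fixedSet X Ω := fun x hx => (hX hx).1
  have hbF : t • a ∈ fixedSet X Ω := fun x hx => (hX hx).2
  have hne := (t_smul_ne hS).symm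
  obtain ⟨g, hg, hga, hgb⟩ := centralizer_two_trans hS hX h3 haF hbF hbF haF hne hne.symm
  -- an involution that is a power of `g`
  obtain ⟨m, hm⟩ : Even (orderOf g) := by
    rw [← Nat.not_odd_iff_even]
    rintro ⟨m, hm⟩
    have hsq : ∀ j : ℕ, (g ^ (2 * j + 1)) • a = t • a := by
      intro j
      induction j with
      | zero => simpa using hga
      | succ j ih => rw [show 2 * (j + 1) + 1 = (2 * j + 1) + 1 + 1 by ring, pow_succ', pow_succ',
          mul_smul, mul_smul, ih, hgb, hga]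
    have := hsq m
    rw [← hm, pow_orderOf_eq_one, one_smul] at this
    exact hne this
  have hn := orderOf_pos g
  set z := g ^ m with hz
  have hz2 : z * z = 1 := by rw [hz, ← pow_add, ← hm, pow_orderOf_eq_one]
  have hz1 : z ≠ 1 := fun h => by
    have := Nat.le_of_dvd (by omega) (orderOf_dvd_of_pow_eq_one h); omega
  have hzC : z ∈ Subgroup.centralizer X := Subgroup.pow_mem _ hg m
  obtain ⟨c, hzc, hzuniq⟩ := exists_fixed hS hz1 hz2
  have hcF : c ∈ fixedSet X Ω := fun x hx => hzuniq _ (by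
    rw [← mul_smul, ← Subgroup.mem_centralizer_iff.1 hzC x hx, mul_smul, hzc])
  -- a point moved by `z`
  obtain ⟨d, hdF, hdc⟩ : ∃ d ∈ fixedSet X Ω, d ≠ c := by
    by_cases h : a = c
    · exact ⟨t • a, hbF, fun h' => hne (h.trans h'.symm)⟩
    · exact ⟨a, haF, h⟩
  have hzd : z • d ≠ d := fun h => hdc (hzuniq d h)
  obtain ⟨g', hg', h1, h2⟩ := centralizer_two_trans hS hX h3 hdF
    (centralizer_smul_mem hzC hdF) haF hbF hzd.symm hne
  refine ⟨g' * z * g'⁻¹,
    Subgroup.mul_mem _ (Subgroup.mul_mem _ hg' hzC) (Subgroup.inv_mem _ hg'), ?_, ?_⟩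
  · rw [mul_smul, mul_smul, inv_smul_eq_iff.2 h1.symm, h2]
  · rw [show g' * z * g'⁻¹ * (g' * z * g'⁻¹) = g' * (z * z) * g'⁻¹ by group, hz2, mul_one,
      mul_inv_cancel]

theorem conj_into_centralizer_t {X : Set G} (hX : X ⊆ (twoStab G a t : Set G))
    (h3 : ∃ b c d : Ω, b ≠ c ∧ b ≠ d ∧ c ≠ d ∧ ∀ x ∈ X, x • b = b ∧ x • c = c ∧ x • d = d) :
    ∃ e ∈ Cfsg.invertedBy (twoStab G a t) t, ∀ x ∈ X, Commute (e * x * e⁻¹) t := by
  obtain ⟨z, hzC, hza, hz2⟩ := exists_centralizer_involution hS hX h3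
  have hzb : z • (t • a) = a := by rw [← hza, ← mul_smul, hz2, one_smul]
  have hk : t * z ∈ Cfsg.invertedBy (twoStab G a t) t := by
    refine (mem_invertedBy_iff hS).2 ⟨?_, ?_⟩
    · rw [mem_twoStab, mul_smul, mul_smul, hza, hzb, tt_smul hS]; exact ⟨rfl, rfl⟩
    · calc t * (t * z) * t = z * t := by rw [tt_mul hS]
        _ = (t * z)⁻¹ := by rw [mul_inv_rev, inv_eq_self_of_sq hz2, t_inv hS]
  obtain ⟨e, he, hee, -⟩ := exists_sqrtK hS hk
  refine ⟨e, he, fun x hx => ?_⟩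
  have hze : z = e⁻¹ * t * e := by
    calc z = t * (t * z) := by rw [tt_mul hS]
      _ = (t * e) * e := by rw [← hee]; group
      _ = _ := by rw [t_mul_inverted hS he]
  have hc : Commute x (e⁻¹ * t * e) := hze ▸ (Subgroup.mem_centralizer_iff.1 hzC x hx)
  show e * x * e⁻¹ * t = t * (e * x * e⁻¹)
  calc e * x * e⁻¹ * t = e * (x * (e⁻¹ * t * e)) * e⁻¹ := by group
    _ = e * ((e⁻¹ * t * e) * x) * e⁻¹ := by rw [hc.eq]
    _ = _ := by group

/-- An element inverted by `t` fixes no third point unless it is trivial. -/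
theorem inverted_fix_three {k : G} (hk : k ∈ Cfsg.invertedBy (twoStab G a t) t)
    (h3 : ∃ b c d : Ω, b ≠ c ∧ b ≠ d ∧ c ≠ d ∧ k • b = b ∧ k • c = c ∧ k • d = d) : k = 1 := by
  have hX : ({k} : Set G) ⊆ (twoStab G a t : Set G) := by simpa using hk.1
  obtain ⟨b, c, d, h1, h2, h3', hb, hc, hd⟩ := h3
  obtain ⟨z, hzC, hza, hz2⟩ := exists_centralizer_involution hS hX
    ⟨b, c, d, h1, h2, h3', fun x hx => by rw [Set.mem_singleton_iff] at hx; subst hx; exact ⟨hb, hc, hd⟩⟩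
  have hzb : z • (t • a) = a := by rw [← hza, ← mul_smul, hz2, one_smul]
  have hd' : t * z ∈ twoStab G a t := by
    rw [mem_twoStab, mul_smul, mul_smul, hza, hzb, tt_smul hS]; exact ⟨rfl, rfl⟩
  refine eq_one_of_inverted_by_mem hS.odd_card hd' hk.1 ?_
  have hzk : z * k * z⁻¹ = k := by
    rw [mul_inv_eq_iff_eq_mul]; exact (Subgroup.mem_centralizer_iff.1 hzC k rfl).symm
  rw [show t * z * k * (t * z)⁻¹ = t * (z * k * z⁻¹) * t⁻¹ by group, hzk]
  exact hk.2

end Cfsg.Agent.Lib.RankOne.Basic
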