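import Cfsg.Agent.Lib.RankOne.Basic
import Cfsg.Agent.Lib.Frobenius.Nilpotent

/-!
# The split rank-one set-up with 2-rank at least two
-/

namespace Cfsg.Agent.Lib.RankOne.Nilpotent

open Cfsg.Agent.Lib.RankOne.Involution Cfsg.Agent.Lib.RankOne.Basic MulAction
open scoped commutatorElement

/-- An involution of a finite nilpotent group whose conjugates are central as soon as one involution is. -/
theorem exists_central_involution {G : Type*} [Group G] [Finite G] (h : Group.IsNilpotent G)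
    {s : G} (hs : s * s = 1) (hs1 : s ≠ 1) :
    ∃ z ∈ Subgroup.center G, z ≠ 1 ∧ z * z = 1 := by
  classical
  obtain ⟨n, hn⟩ := h.nilpotent
  have hex : ∃ i, ∃ z : G, z ≠ 1 ∧ z * z = 1 ∧ z ∈ Subgroup.upperCentralSeries G i :=
    ⟨n, s, hs1, hs, hn ▸ Subgroup.mem_top s⟩
  obtain ⟨z, hz1, hz, hzi⟩ := Nat.find_spec hex
  obtain ⟨i, hi⟩ : ∃ i, Nat.find hex = i + 1 := by
    refine ⟨Nat.find hex - 1, ?_⟩
    have : Nat.find hex ≠ 0 := fun h0 => by
      rw [h0, Subgroup.upperCentralSeries_zero] at hzi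
      exact hz1 (Subgroup.mem_bot.1 hzi)
    omega
  rw [hi] at hzi
  refine ⟨z, Subgroup.mem_center_iff.2 fun x => ?_, hz1, hz⟩
  have hzi' := inv_eq_self_of_sq hz
  set c := z * x * z * x⁻¹ with hc
  have hci : c ∈ Subgroup.upperCentralSeries G i := by
    have := Subgroup.mem_upperCentralSeries_succ_iff.1 hzi x
    rwa [commutatorElement_def, hzi'] at this
  have hinv : z * c * z⁻¹ = c⁻¹ := by
    rw [hc, hzi']
    calc z * (z * x * z * x⁻¹) * z = z * z * (x * z * x⁻¹ * z) := by group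
      _ = x * z⁻¹ * x⁻¹ * z⁻¹ := by rw [hz, one_mul, hzi']
      _ = _ := by group
  have hdesc : ∀ j k : ℕ, ∀ d : G, (∃ m, d = c ^ m) → d ∈ Subgroup.upperCentralSeries G j →
      j ≤ k → d ^ 2 ^ k = 1 := by
    intro j
    induction j with
    | zero =>
      intro k d _ hd _
      rw [Subgroup.upperCentralSeries_zero, Subgroup.mem_bot] at hd
      rw [hd, one_pow]
    | succ j ih =>
      intro k d hdm hd hjk
      obtain ⟨m, rfl⟩ := hdm
      have h2 : c ^ m * c ^ m ∈ Subgroup.upperCentralSeries G j := by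
        have := Subgroup.mem_upperCentralSeries_succ_iff.1 hd z
        rwa [show ⁅c ^ m, z⁆ = c ^ m * (z * c ^ m * z⁻¹)⁻¹ by rw [commutatorElement_def]; group,
          ← conj_pow, hinv, inv_pow, inv_inv] at this
      obtain ⟨k', rfl⟩ : ∃ k', k = k' + 1 := ⟨k - 1, by omega⟩
      rw [pow_succ', pow_mul, sq]
      exact ih k' _ ⟨m + m, (pow_add c m m).symm⟩ h2 (by omega)
  have hck := hdesc i i c ⟨1, (pow_one c).symm⟩ hci le_rfl
  suffices c = 1 by
    rw [hc, mul_inv_eq_one] at this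
    calc x * z = z * x * z * z := by rw [this]
      _ = z * x := by rw [mul_assoc _ z z, hz, mul_one]
  by_contra hc1
  have hex2 : ∃ j, c ^ 2 ^ j = 1 := ⟨i, hck⟩
  have h0 : Nat.find hex2 ≠ 0 := fun h => hc1 (by simpa [h] using Nat.find_spec hex2)
  refine Nat.find_min hex (show i < Nat.find hex by omega)
    ⟨c ^ 2 ^ (Nat.find hex2 - 1), Nat.find_min hex2 (by omega), ?_, Subgroup.pow_mem _ hci _⟩
  rw [← pow_add, ← two_mul, ← pow_succ', show Nat.find hex2 - 1 + 1 = Nat.find hex2 by omega]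
  exact Nat.find_spec hex2

variable {G Ω : Type*} [Group G] [Finite G] [MulAction G Ω] {a : Ω} {t : G} {Q : Subgroup G}
  (hS : Cfsg.IsRankOneSetup G Ω a t Q)
  (h2 : ∃ x y : G, x ≠ 1 ∧ y ≠ 1 ∧ x ≠ y ∧ x * x = 1 ∧ y * y = 1 ∧ x * y = y * x)
include hS h2

theorem exists_two_involutions : ∃ s s' : G,
    s ∈ Cfsg.involutionsIn (stabilizer G a : Set G) ∧
      s' ∈ Cfsg.involutionsIn (stabilizer G a : Set G) ∧ s ≠ s' := by
  obtain ⟨x, y, hx1, hy1, hxy, hx, hy, hc⟩ := h2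
  obtain ⟨c, hxc, hu⟩ := exists_fixed hS hx1 hx
  have hyc : y • c = c := hu _ (by rw [← mul_smul, hc, mul_smul, hxc])
  obtain ⟨g, rfl⟩ := (pretransitive hS).exists_smul_eq a c
  have key : ∀ z : G, z ≠ 1 → z * z = 1 → z • g • a = g • a →
      g⁻¹ * z * g ∈ Cfsg.involutionsIn (stabilizer G a : Set G) := fun z hz1 hz hzc => by
    refine ⟨?_, fun h => hz1 ?_, ?_⟩
    · show (g⁻¹ * z * g) • a = a
      rw [mul_smul, mul_smul, hzc, inv_smul_smul]
    · rw [show z = g * (g⁻¹ * z * g) * g⁻¹ by group, h, mul_one, mul_inv_cancel]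
    · rw [show g⁻¹ * z * g * (g⁻¹ * z * g) = g⁻¹ * (z * z) * g by group, hz, mul_one, inv_mul_cancel]
  exact ⟨_, _, key x hx1 hx hxc, key y hy1 hy hyc,
    fun h => hxy (mul_left_cancel (mul_right_cancel h))⟩

theorem exists_inverted_ne_one : ∃ k ∈ Cfsg.invertedBy (twoStab G a t) t, k ≠ 1 := by
  obtain ⟨s, s', hs, hs', hne⟩ := exists_two_involutions hS h2
  obtain ⟨k, ⟨hk, h⟩, -⟩ := existsUnique_K hS hs hs'
  exact ⟨k, hk, fun hk1 => hne (by rw [← h, hk1]; group)⟩

theorem nilpotent : Group.IsNilpotent Q := by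
  obtain ⟨k₀, hk₀, hk₀1⟩ := exists_inverted_ne_one hS h2
  have hr : (orderOf k₀).minFac.Prime := Nat.minFac_prime (fun h => hk₀1 (orderOf_eq_one_iff.1 h))
  set r := (orderOf k₀).minFac with hr'
  set k := k₀ ^ (orderOf k₀ / r) with hkdef
  have hdvd : r ∣ orderOf k₀ := Nat.minFac_dvd _
  have hkK : k ∈ Cfsg.invertedBy (twoStab G a t) t :=
    ⟨Subgroup.pow_mem _ hk₀.1 _, by rw [hkdef, ← conj_pow, hk₀.2, inv_pow]⟩
  have hpos : 0 < orderOf k₀ / r :=
    Nat.div_pos (Nat.le_of_dvd (orderOf_pos k₀) hdvd) hr.pos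
  have hk1 : k ≠ 1 := fun h => by
    have := Nat.le_of_dvd hpos (orderOf_dvd_of_pow_eq_one h)
    have := Nat.div_lt_self (orderOf_pos k₀) hr.one_lt
    omega
  have hkr : k ^ r = 1 := by
    rw [hkdef, ← pow_mul, Nat.div_mul_cancel hdvd, pow_orderOf_eq_one]
  let φ : Q ≃* Q :=
    { toFun := fun x => ⟨k * x * k⁻¹, twoStab_norm hS hkK.1 x.2⟩
      invFun := fun x => ⟨k⁻¹ * x * k, twoStab_norm' hS hkK.1 x.2⟩
      left_inv := fun x => Subtype.ext (by simp [mul_assoc])
      right_inv := fun x => Subtype.ext (by simp [mul_assoc])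
      map_mul' := fun x y => Subtype.ext (by simp [mul_assoc]) }
  refine Frobenius.Nilpotent.isNilpotent_of_fixedPointFree hr φ (fun x hx => ?_) fun x => ?_
  · have hx' : k * (x : G) * k⁻¹ = x := congrArg Subtype.val hx
    by_contra hne
    have hxb : k • ((x : G) • (t • a)) = (x : G) • (t • a) := by
      rw [← mul_smul, mul_inv_eq_iff_eq_mul.1 hx', mul_smul, (mem_twoStab.1 hkK.1).2]
    refine hk1 (inverted_fix_three hS hkK ⟨a, t • a, (x : G) • (t • a), (t_smul_ne hS).symm, ?_, ?_,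
      (mem_twoStab.1 hkK.1).1, (mem_twoStab.1 hkK.1).2, hxb⟩)
    · exact fun h => t_smul_ne hS (smul_left_cancel (x : G) (h.symm.trans (Q_fix hS x.2).symm))
    · exact fun h => hne (Subtype.ext (Q_free hS x.2 (t_smul_ne hS) h.symm))
  · have h : ∀ n : ℕ, (((⇑φ)^[n] x : Q) : G) = k ^ n * x * (k ^ n)⁻¹ := by
      intro n
      induction n with
      | zero => simp
      | succ n ih =>
        rw [Function.iterate_succ_apply', pow_succ']
        show k * _ * k⁻¹ = _
        rw [ih]; group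
    apply Subtype.ext
    rw [h, hkr]; simp

/-- The involutions of `G_a` are central in `Q`. -/
theorem involution_central {s : G} (hs : s ∈ Cfsg.involutionsIn (stabilizer G a : Set G)) :
    s ∈ Q ∧ ∀ x ∈ Q, s * x = x * s := by
  refine ⟨involutions_stab_mem_Q hS hs.1 hs.2.2, ?_⟩
  obtain ⟨s₁, hs₁⟩ := exists_involution hS
  obtain ⟨z, hz, hz1, hz2⟩ := exists_central_involution (nilpotent hS h2)
    (s := ⟨s₁, involutions_stab_mem_Q hS hs₁.1 hs₁.2.2⟩) (Subtype.ext hs₁.2.2)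
    (fun h => hs₁.2.1 (congrArg Subtype.val h))
  have hzI : (z : G) ∈ Cfsg.involutionsIn (stabilizer G a : Set G) :=
    ⟨hS.le z.2, fun h => hz1 (Subtype.ext h), congrArg Subtype.val hz2⟩
  obtain ⟨k, ⟨hk, rfl⟩, -⟩ := existsUnique_K hS hzI hs
  intro x hx
  have h := congrArg Subtype.val
    (Subgroup.mem_center_iff.1 hz ⟨k⁻¹ * x * k, twoStab_norm' hS hk.1 hx⟩)
  simp only [Subgroup.coe_mul] at h
  calc k * z * k⁻¹ * x = k * ((z : G) * (k⁻¹ * x * k)) * k⁻¹ := by group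
    _ = k * ((k⁻¹ * x * k) * z) * k⁻¹ := by rw [h]
    _ = _ := by group

theorem involutions_commute {s s' : G} (hs : s ∈ Cfsg.involutionsIn (stabilizer G a : Set G))
    (hs' : s' ∈ Cfsg.involutionsIn (stabilizer G a : Set G)) : s * s' = s' * s :=
  (involution_central hS h2 hs).2 s' (involutions_stab_mem_Q hS hs'.1 hs'.2.2)

/-- The centraliser of an involution with fixed point `c` is transitive on the other points. -/
theorem centralizer_involution_trans {v : G} (hv1 : v ≠ 1) (hv : v * v = 1) {c d e : Ω}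
    (hvc : v • c = c) (hd : d ≠ c) (he : e ≠ c) : ∃ g : G, Commute g v ∧ g • d = e := by
  obtain ⟨h, rfl⟩ := (pretransitive hS).exists_smul_eq a c
  have hI : h⁻¹ * v * h ∈ Cfsg.involutionsIn (stabilizer G a : Set G) := by
    refine ⟨?_, fun h' => hv1 ?_, ?_⟩
    · show (h⁻¹ * v * h) • a = a
      rw [mul_smul, mul_smul, hvc, inv_smul_smul]
    · rw [show v = h * (h⁻¹ * v * h) * h⁻¹ by group, h', mul_one, mul_inv_cancel]
    · rw [show h⁻¹ * v * h * (h⁻¹ * v * h) = h⁻¹ * (v * v) * h by group, hv, mul_one, inv_mul_cancel]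
  obtain ⟨q, hq, hqd⟩ := Q_trans hS (c := h⁻¹ • d) (d := h⁻¹ • e)
    (fun h' => hd (inv_smul_eq_iff.1 h')) (fun h' => he (inv_smul_eq_iff.1 h'))
  refine ⟨h * q * h⁻¹, ?_, by rw [mul_smul, mul_smul, hqd, smul_inv_smul]⟩
  have hc := (involution_central hS h2 hI).2 q hq
  show h * q * h⁻¹ * v = v * (h * q * h⁻¹)
  calc h * q * h⁻¹ * v = h * (q * (h⁻¹ * v * h)) * h⁻¹ := by group
    _ = h * ((h⁻¹ * v * h) * q) * h⁻¹ := by rw [hc]
    _ = _ := by group

/-- Products of two involutions that are not involutions. -/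
theorem product_two_involutions {u v : G} (hu1 : u ≠ 1) (hu2 : u * u = 1) (hv1 : v ≠ 1)
    (hv2 : v * v = 1) (hx : (u * v) * (u * v) ≠ 1) :
    (∃ g : G, ∃ u' ∈ Cfsg.involutionsIn (stabilizer G a : Set G), g * (u * v) * g⁻¹ = u' * t) ∧
      Odd (Nat.card (Subgroup.centralizer {u * v})) := by
  obtain ⟨cu, hcu, hcuu⟩ := exists_fixed hS hu1 hu2
  obtain ⟨cv, hcv, hcvu⟩ := exists_fixed hS hv1 hv2
  have hne : cu ≠ cv := by
    intro heq
    subst heq
    apply hx
    obtain ⟨g, rfl⟩ := (pretransitive hS).exists_smul_eq a cu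
    have key : ∀ z : G, z ≠ 1 → z * z = 1 → z • g • a = g • a →
        g⁻¹ * z * g ∈ Cfsg.involutionsIn (stabilizer G a : Set G) := fun z hz1 hz hzc => by
      refine ⟨?_, fun h => hz1 ?_, ?_⟩
      · show (g⁻¹ * z * g) • a = a
        rw [mul_smul, mul_smul, hzc, inv_smul_smul]
      · rw [show z = g * (g⁻¹ * z * g) * g⁻¹ by group, h, mul_one, mul_inv_cancel]
      · rw [show g⁻¹ * z * g * (g⁻¹ * z * g) = g⁻¹ * (z * z) * g by group, hz, mul_one, inv_mul_cancel]
    have hc := involutions_commute hS h2 (key u hu1 hu2 hcu) (key v hv1 hv2 hcv)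
    have hc' : u * v = v * u := by
      calc u * v = g * ((g⁻¹ * u * g) * (g⁻¹ * v * g)) * g⁻¹ := by group
        _ = g * ((g⁻¹ * v * g) * (g⁻¹ * u * g)) * g⁻¹ := by rw [hc]
        _ = v * u := by group
    calc u * v * (u * v) = u * (v * u) * v := by group
      _ = (u * u) * (v * v) := by rw [← hc']; group
      _ = 1 := by rw [hu2, hv2, mul_one]
  constructor
  · obtain ⟨g₁, hg₁⟩ := all_conj hS hv1 hv2 hS.ne_one hS.mul_self
    obtain ⟨c₀, hc₀, hc₀u⟩ := exists_fixed hS hS.ne_one hS.mul_self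
    have h1 : g₁ • cv = c₀ := hc₀u _ (by
      rw [← hg₁, mul_smul, mul_smul, inv_smul_smul, hcv])
    have ha : a ≠ c₀ := fun h => t_smul_ne hS (h ▸ hc₀)
    have h3 : g₁ • cu ≠ c₀ := fun h => hne (smul_left_cancel g₁ (h.trans h1.symm))
    obtain ⟨g₂, hg₂, hg₂'⟩ :=
      centralizer_involution_trans hS h2 hS.ne_one hS.mul_self hc₀ h3 ha
    refine ⟨g₂ * g₁, g₂ * g₁ * u * (g₂ * g₁)⁻¹, ⟨?_, fun h => hu1 (conj_eq_one_iff.1 h), ?_⟩, ?_⟩
    · show (g₂ * g₁ * u * (g₂ * g₁)⁻¹) • a = a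
      rw [mul_smul, mul_smul, show (g₂ * g₁)⁻¹ • a = cu by
        rw [inv_smul_eq_iff, mul_smul, hg₂'], hcu, mul_smul, hg₂']
    · rw [show g₂ * g₁ * u * (g₂ * g₁)⁻¹ * (g₂ * g₁ * u * (g₂ * g₁)⁻¹) =
        g₂ * g₁ * (u * u) * (g₂ * g₁)⁻¹ by group, hu2, mul_one, mul_inv_cancel]
    · calc g₂ * g₁ * (u * v) * (g₂ * g₁)⁻¹
          = g₂ * g₁ * u * (g₂ * g₁)⁻¹ * (g₂ * (g₁ * v * g₁⁻¹) * g₂⁻¹) := by group
        _ = _ := by rw [hg₁, hg₂.eq]; group
  · rw [← Nat.not_even_iff_odd, even_iff_two_dvd]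
    intro hdvd
    obtain ⟨z, hz⟩ := exists_prime_orderOf_dvd_card' (G := Subgroup.centralizer {u * v}) 2 hdvd
    have hz1 : (z : G) ≠ 1 := fun h => by
      rw [← Subgroup.orderOf_coe, h, orderOf_one] at hz; norm_num at hz
    have hz2 : (z : G) * z = 1 := by
      rw [← sq, ← hz, ← Subgroup.orderOf_coe]; exact pow_orderOf_eq_one _
    obtain ⟨c, hzc, hzu⟩ := exists_fixed hS hz1 hz2
    have hzx : (z : G) * (u * v) = u * v * z := Subgroup.mem_centralizer_singleton_iff.1 z.2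
    have hxc : (u * v) • c = c := hzu _ (by rw [← mul_smul, hzx, mul_smul, hzc])
    by_cases huc : u • c = c
    · have hvc : v • c = c := by
        have : u • v • c = u • c := by rw [← mul_smul, hxc, huc]
        exact smul_left_cancel u this
      exact hne ((hcuu c huc).symm.trans (hcvu c hvc))
    -- move `c` to `a` and `u c` to `t a`
    obtain ⟨g, hgc, hguc⟩ := exists_pair hS (Ne.symm huc) (t_smul_ne hS).symm
    obtain ⟨w, hw⟩ : ∃ w, w = g * u * g⁻¹ := ⟨_, rfl⟩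
    have hw2 : w * w = 1 := by
      rw [hw, show g * u * g⁻¹ * (g * u * g⁻¹) = g * (u * u) * g⁻¹ by group, hu2, mul_one, mul_inv_cancel]
    have hgi : g⁻¹ • a = c := inv_smul_eq_iff.2 hgc.symm
    have hwa : w • a = t • a := by rw [hw, mul_smul, mul_smul, hgi, hguc]
    have hwb : w • (t • a) = a := by rw [← hwa, ← mul_smul, hw2, one_smul]
    obtain ⟨y, hy⟩ : ∃ y, y = g * (u * v) * g⁻¹ := ⟨_, rfl⟩
    have hya : y • a = a := by rw [hy, mul_smul, mul_smul, hgi, hxc, hgc]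
    have hwy : w * y * w⁻¹ = y⁻¹ := by
      rw [hw, hy]
      calc g * u * g⁻¹ * (g * (u * v) * g⁻¹) * (g * u * g⁻¹)⁻¹
          = g * (u * u * v * u⁻¹) * g⁻¹ := by group
        _ = g * (v⁻¹ * u⁻¹) * g⁻¹ := by rw [hu2, one_mul, inv_eq_self_of_sq hv2]
        _ = _ := by group
    have hyb : y • (t • a) = t • a := by
      have hy' : y⁻¹ • (t • a) = t • a := by
        rw [← hwy, mul_smul, mul_smul, inv_eq_self_of_sq hw2, hwb, hya, hwa]
      conv_lhs => rw [← hy', smul_inv_smul]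
    obtain ⟨e, he, hee, -⟩ : ∃ e ∈ Cfsg.invertedBy (twoStab G a t) t, e * e = t * w ∧ True := by
      obtain ⟨e, he, hee, -⟩ := exists_sqrtK hS (k := t * w) ((mem_invertedBy_iff hS).2 ⟨by
        rw [mem_twoStab, mul_smul, mul_smul, hwa, hwb, tt_smul hS]; exact ⟨rfl, rfl⟩, by
        calc t * (t * w) * t = w * t := by rw [tt_mul hS]
          _ = (t * w)⁻¹ := by rw [mul_inv_rev, inv_eq_self_of_sq hw2, t_inv hS]⟩)
      exact ⟨e, he, hee, trivial⟩
    have hwe : w = e⁻¹ * t * e := by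
      calc w = t * (t * w) := by rw [tt_mul hS]
        _ = (t * e) * e := by rw [← hee]; group
        _ = _ := by rw [t_mul_inverted hS he]
    obtain ⟨hea, heb⟩ := mem_twoStab.1 he.1
    have hea' : e⁻¹ • a = a := inv_smul_eq_iff.2 hea.symm
    have heb' : e⁻¹ • (t • a) = t • a := inv_smul_eq_iff.2 heb.symm
    have hk : e * y * e⁻¹ ∈ Cfsg.invertedBy (twoStab G a t) t := by
      refine ⟨?_, ?_⟩
      · rw [mem_twoStab, mul_smul, mul_smul, mul_smul, mul_smul, hea', heb', hya, hyb, hea, heb]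
        exact ⟨rfl, rfl⟩
      · calc t * (e * y * e⁻¹) * t⁻¹ = e * ((e⁻¹ * t * e) * y * (e⁻¹ * t * e)⁻¹) * e⁻¹ := by group
          _ = e * y⁻¹ * e⁻¹ := by rw [← hwe, hwy]
          _ = _ := by group
    set z' := g * (z : G) * g⁻¹ with hz'
    have hz'1 : z' ≠ 1 := fun h => hz1 (by simpa [hz'] using h)
    have hz'a : z' • a = a := by rw [hz', mul_smul, mul_smul, hgi, hzc, hgc]
    have hz'I : z' ∈ Cfsg.involutionsIn (stabilizer G a : Set G) := ⟨hz'a, hz'1, by
      rw [hz', show g * (z : G) * g⁻¹ * (g * z * g⁻¹) = g * ((z : G) * z) * g⁻¹ by group, hz2, mul_one,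
        mul_inv_cancel]⟩
    have hzy : z' * y = y * z' := by
      calc z' * y = g * ((z : G) * (u * v)) * g⁻¹ := by rw [hz', hy]; group
        _ = g * (u * v * z) * g⁻¹ := by rw [hzx]
        _ = y * z' := by rw [hz', hy]; group
    have hk1 := inverted_fix_three hS hk ⟨a, t • a, e • (z' • (t • a)), (t_smul_ne hS).symm, ?_, ?_,
      (mem_twoStab.1 hk.1).1, (mem_twoStab.1 hk.1).2, by
        rw [mul_smul, mul_smul, inv_smul_smul, ← mul_smul y, ← hzy, mul_smul, hyb]⟩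
    · apply hx
      have hy1 : y = 1 := by simpa using hk1
      have huv : u * v = 1 := by simpa [hy] using hy1
      rw [huv, one_mul]
    · intro h
      exact t_smul_ne hS (smul_left_cancel z'
        ((smul_left_cancel e (h.symm.trans hea.symm)).trans hz'a.symm))
    · intro h
      have h' : t • a = z' • (t • a) := by
        apply smul_left_cancel e
        rw [heb]; exact h
      exact hz'1 (Q_free hS (involutions_stab_mem_Q hS hz'I.1 hz'I.2.2) (t_smul_ne hS) h'.symm)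

end Cfsg.Agent.Lib.RankOne.Nilpotent
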