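import Mathlib

/-!
# Field automorphisms span the additive endomorphisms of a finite field
-/

namespace Cfsg.Agent.Lib.RankOne.AutSpan

variable {F : Type*} [Field F] [Fintype F]

theorem linearIndependent_aut :
    LinearIndependent F (fun σ : F ≃+* F => ((σ : F →+* F) : F → F)) := by
  refine (linearIndependent_monoidHom F F).comp
    (fun σ : F ≃+* F => ((σ : F →+* F) : F →* F)) ?_
  intro σ τ h
  ext x
  exact congrArg (fun f : F →* F => f x) h

variable (p : ℕ) [Fact p.Prime] [Algebra (ZMod p) F]

/-- Ring automorphisms are algebra automorphisms over the prime field. -/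
def autEquiv : (F ≃+* F) ≃ (F ≃ₐ[ZMod p] F) where
  toFun σ := AlgEquiv.ofRingEquiv (f := σ) fun x =>
    RingHom.congr_fun (RingHom.ext_zmod ((σ : F →+* F).comp (algebraMap (ZMod p) F))
      (algebraMap (ZMod p) F)) x
  invFun σ := σ.toRingEquiv
  left_inv σ := by ext; rfl
  right_inv σ := by ext; rfl

theorem exists_coeffs [Fintype (F ≃+* F)] (f : F →ₗ[ZMod p] F) :
    ∃ c : (F ≃+* F) → F, ∀ x, f x = ∑ σ, c σ * σ x := by
  classical
  have hfin : Module.Finite (ZMod p) F := Module.Finite.of_finite
  have hF : Finite (F →ₗ[ZMod p] F) := Finite.of_injective (fun f => (f : F → F)) DFunLike.coe_injective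
  haveI := Fintype.ofFinite (F →ₗ[ZMod p] F)
  let Φ : ((F ≃+* F) → F) → (F →ₗ[ZMod p] F) := fun c =>
    ∑ σ, (LinearMap.mulLeft (ZMod p) (c σ)).comp ((autEquiv p σ).toLinearMap)
  have hΦ : ∀ c x, Φ c x = ∑ σ, c σ * σ x := fun c x => by
    simp only [Φ, LinearMap.sum_apply]
    rfl
  have hinj : Function.Injective Φ := by
    intro c d h
    have := Fintype.linearIndependent_iff.1 (linearIndependent_aut (F := F)) (c - d) (by
      funext x
      have h2 := LinearMap.congr_fun h x
      rw [hΦ, hΦ] at h2
      simp [Finset.sum_apply, sub_mul, Finset.sum_sub_distrib, h2])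
    exact funext fun σ => sub_eq_zero.1 (this σ)
  have hcard : Fintype.card ((F ≃+* F) → F) = Fintype.card (F →ₗ[ZMod p] F) := by
    have h1 : Fintype.card (F ≃+* F) = Module.finrank (ZMod p) F := by
      rw [← Nat.card_eq_fintype_card, Nat.card_congr (autEquiv p)]
      exact IsGalois.card_aut_eq_finrank (ZMod p) F
    rw [Fintype.card_fun, ← Fintype.card_congr
      ((Module.finBasis (ZMod p) F).constr (ZMod p) (M' := F)).toEquiv, Fintype.card_fun,
      Fintype.card_fin, h1]
  obtain ⟨c, hc⟩ := ((Fintype.bijective_iff_injective_and_card Φ).2 ⟨hinj, hcard⟩).2 f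
  exact ⟨c, fun x => by rw [← hΦ, hc]⟩

include p in
theorem exists_coeffs₂ [Fintype (F ≃+* F)] (B : F →+ F →+ F) :
    ∃ c : (F ≃+* F) × (F ≃+* F) → F, ∀ x y, B x y = ∑ q, c q * (q.1 x * q.2 y) := by
  choose c hc using fun x => exists_coeffs p ((B x).toZModLinearMap p)
  simp only [AddMonoidHom.coe_toZModLinearMap] at hc
  have hadd : ∀ x x' τ, c (x + x') τ = c x τ + c x' τ := by
    intro x x' τ
    have := Fintype.linearIndependent_iff.1 (linearIndependent_aut (F := F))
      (fun σ => c (x + x') σ - (c x σ + c x' σ)) (by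
        funext y
        have h : B (x + x') y = B x y + B x' y := by simp
        rw [hc, hc, hc] at h
        simp [Finset.sum_apply, sub_mul, Finset.sum_sub_distrib, add_mul, Finset.sum_add_distrib, h])
    exact sub_eq_zero.1 (this τ)
  choose d hd using fun τ => exists_coeffs p
    ((AddMonoidHom.mk' (fun x => c x τ) fun x x' => hadd x x' τ).toZModLinearMap p)
  simp only [AddMonoidHom.coe_toZModLinearMap, AddMonoidHom.mk'_apply] at hd
  refine ⟨fun q => d q.2 q.1, fun x y => ?_⟩
  rw [hc, Fintype.sum_prod_type, Finset.sum_comm]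
  refine Finset.sum_congr rfl fun τ _ => ?_
  rw [hd, Finset.sum_mul]
  exact Finset.sum_congr rfl fun σ _ => mul_assoc _ _ _

variable [CharP F 2] [Algebra (ZMod 2) F]

/-- A quadratic map in characteristic two is the diagonal of a biadditive map. -/
theorem exists_biadditive (q : F → F)
    (hq : ∀ x y z : F, q (x + y + z) + q (x + y) + q (x + z) + q (y + z) + q x + q y + q z = 0) :
    ∃ B : F →+ F →+ F, ∀ x, q x = B x x := by
  classical
  have h2 : ∀ u : F, u + u = 0 := CharTwo.add_self_eq_zero
  have eq_iff : ∀ u v : F, u + v = 0 → u = v := fun u v h => (CharTwo.add_eq_zero).1 h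
  have q0 : q 0 = 0 := by
    have := hq 0 0 0
    simp only [add_zero, h2, zero_add] at this
    exact this
  set β : F → F → F := fun x y => q (x + y) + q x + q y with hβ
  have βadd : ∀ x y z, β (x + y) z = β x z + β y z := fun x y z => by
    refine eq_iff _ _ ?_
    simp only [hβ]
    have := hq x y z
    linear_combination this + h2 (q z)
  have βsymm : ∀ x y, β x y = β y x := fun x y => by simp [hβ, add_comm, add_left_comm]
  have βself : ∀ x, β x x = 0 := fun x => by simp [hβ, h2, q0]
  have hfin : Module.Finite (ZMod 2) F := Module.Finite.of_finite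
  let e := Module.finBasis (ZMod 2) F
  let B₂ := e.constr (ZMod 2) fun i => e.constr (ZMod 2) fun j =>
    if i < j then β (e i) (e j) else if i = j then q (e i) else 0
  let B : F →+ F →+ F := AddMonoidHom.mk' (fun x => (B₂ x).toAddMonoidHom)
    (fun x y => by ext z; simp)
  have hB : ∀ x y, B x y = B₂ x y := fun _ _ => rfl
  have hpol : ∀ x y, β x y = B₂ x y + B₂ y x := by
    intro x y
    let βl : F → F →ₗ[ZMod 2] F := fun y =>
      (AddMonoidHom.mk' (fun x => β x y) (fun a b => βadd a b y)).toZModLinearMap 2
    have key : ∀ i z, β (e i) z = B₂ (e i) z + B₂ z (e i) := by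
      intro i z
      have : βl (e i) = B₂ (e i) + B₂.flip (e i) := by
        refine e.ext fun j => ?_
        show β (e j) (e i) = B₂ (e i) (e j) + B₂ (e j) (e i)
        simp only [B₂, Module.Basis.constr_basis]
        rcases lt_trichotomy i j with h | rfl | h
        · simp [h, h.not_gt, h.ne', βsymm]
        · simp [βself, h2]
        · simp [h, h.not_gt, h.ne']
      rw [βsymm]
      exact LinearMap.congr_fun this z
    have : βl y = B₂.flip y + B₂ y := by
      refine e.ext fun i => ?_
      show β (e i) y = B₂ (e i) y + B₂ y (e i)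
      exact key i y
    exact LinearMap.congr_fun this x
  refine ⟨B, fun x => ?_⟩
  rw [hB]
  refine eq_iff _ _ ?_
  let r : F →ₗ[ZMod 2] F := (AddMonoidHom.mk' (fun x => q x + B₂ x x) (fun a b => by
    have h := hpol a b
    simp only [hβ] at h
    refine eq_iff _ _ ?_
    simp only [map_add, LinearMap.add_apply]
    linear_combination h + h2 (B₂ a a) + h2 (B₂ b b) + h2 (B₂ a b) + h2 (B₂ b a))).toZModLinearMap 2
  have hr : r = 0 := by
    refine e.ext fun i => ?_
    show q (e i) + B₂ (e i) (e i) = 0
    simp only [B₂, Module.Basis.constr_basis]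
    simp [h2]
  exact LinearMap.congr_fun hr x

end Cfsg.Agent.Lib.RankOne.AutSpan
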