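import Mathlib
import Cfsg.Prelude.Def_LieRecognition

/-!
# Involutions acting on groups of odd order

Square roots in subgroups of odd order, the decomposition `X = C_X(t) * {inverted elements}`,
generation by the centralisers of a four-group, and pairs of involutions with product of odd order.
-/

namespace Cfsg.Agent.Lib.RankOne.Involution

variable {G : Type*} [Group G]

theorem inv_eq_self_of_sq {t : G} (h : t * t = 1) : t⁻¹ = t :=
  inv_eq_of_mul_eq_one_left h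

section Odd

variable {H : Subgroup G} (hodd : Odd (Nat.card H))
include hodd

omit hodd in
theorem pow_card_eq_one_mem {x : G} (hx : x ∈ H) : x ^ Nat.card H = 1 :=
  congrArg Subtype.val (pow_card_eq_one' (x := (⟨x, hx⟩ : H)))

theorem eq_of_sq_eq {x y : G} (hx : x ∈ H) (hy : y ∈ H) (h : x * x = y * y) : x = y := by
  obtain ⟨m, hm⟩ := hodd
  have key : ∀ z ∈ H, z = (z * z) ^ (m + 1) := fun z hz => by
    rw [← sq, ← pow_mul, show 2 * (m + 1) = Nat.card H + 1 by omega, pow_succ,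
      pow_card_eq_one_mem hz, one_mul]
  rw [key x hx, key y hy, h]

theorem eq_one_of_sq {x : G} (hx : x ∈ H) (h : x * x = 1) : x = 1 :=
  eq_of_sq_eq hodd hx H.one_mem (by simpa using h)

theorem exists_sqrt {x : G} (hx : x ∈ H) :
    ∃ y ∈ H, y * y = x ∧ ∃ k : ℕ, y = x ^ k := by
  obtain ⟨m, hm⟩ := hodd
  refine ⟨x ^ (m + 1), H.pow_mem hx _, ?_, m + 1, rfl⟩
  rw [← pow_add, show m + 1 + (m + 1) = Nat.card H + 1 by omega, pow_succ,
    pow_card_eq_one_mem hx, one_mul]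

/-- An element of odd-order ambient group that inverts and is of odd order cannot invert
anything non-trivial. -/
theorem eq_one_of_inverted_by_mem {d k : G} (hd : d ∈ H) (hk : k ∈ H)
    (h : d * k * d⁻¹ = k⁻¹) : k = 1 := by
  have h2 : Commute (d * d) k := by
    have : d * d * k * (d * d)⁻¹ = k := by
      calc d * d * k * (d * d)⁻¹ = d * (d * k * d⁻¹) * d⁻¹ := by group
        _ = d * k⁻¹ * d⁻¹ := by rw [h]
        _ = (d * k * d⁻¹)⁻¹ := by group
        _ = k := by rw [h, inv_inv]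
    exact mul_inv_eq_iff_eq_mul.1 this
  obtain ⟨m, hm⟩ := hodd
  have h3 : Commute ((d * d) ^ (m + 1)) k := h2.pow_left _
  rw [← sq, ← pow_mul, show 2 * (m + 1) = Nat.card H + 1 by omega, pow_succ,
    pow_card_eq_one_mem hd, one_mul] at h3
  have h4 : k = k⁻¹ := by rwa [show d * k * d⁻¹ = k by rw [h3.eq]; group] at h
  exact eq_one_of_sq ⟨m, hm⟩ hk (by nth_rewrite 2 [h4]; group)

variable {t : G} (ht : t * t = 1) (hnorm : ∀ x ∈ H, t * x * t⁻¹ ∈ H)
include ht hnorm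

theorem exists_decomp {x : G} (hx : x ∈ H) :
    ∃ c ∈ H, ∃ i ∈ H, t * c * t⁻¹ = c ∧ t * i * t⁻¹ = i⁻¹ ∧ x = c * i := by
  have htt := inv_eq_self_of_sq ht
  set y := t * x * t⁻¹ with hy
  have hyH : y ∈ H := hnorm x hx
  obtain ⟨i, hi, hii, k, hk⟩ := exists_sqrt hodd (H.mul_mem (H.inv_mem hyH) hx)
  have hyy : t * y * t⁻¹ = x := by rw [hy, htt]; simp [mul_assoc, ht, ← mul_assoc t t]
  have hinv : t * i * t⁻¹ = i⁻¹ := by
    rw [hk, ← conj_pow, ← inv_pow]
    congr 1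
    calc t * (y⁻¹ * x) * t⁻¹ = (t * y * t⁻¹)⁻¹ * (t * x * t⁻¹) := by group
      _ = (y⁻¹ * x)⁻¹ := by rw [hyy, ← hy]; group
  refine ⟨x * i⁻¹, H.mul_mem hx (H.inv_mem hi), i, hi, ?_, hinv, by simp⟩
  calc t * (x * i⁻¹) * t⁻¹ = (t * x * t⁻¹) * (t * i * t⁻¹)⁻¹ := by group
    _ = y * (i * i) * i⁻¹ := by rw [← hy, hinv]; group
    _ = x * i⁻¹ := by rw [hii]; group

omit ht hnorm in
theorem decomp_unique {c c' i i' : G} (hi : i ∈ H) (hi' : i' ∈ H)
    (hc : t * c * t⁻¹ = c) (hc' : t * c' * t⁻¹ = c') (hit : t * i * t⁻¹ = i⁻¹)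
    (hit' : t * i' * t⁻¹ = i'⁻¹) (h : c * i = c' * i') : c = c' ∧ i = i' := by
  have h2 : c * i⁻¹ = c' * i'⁻¹ := by
    calc c * i⁻¹ = t * (c * i) * t⁻¹ := by
          rw [show t * (c * i) * t⁻¹ = (t * c * t⁻¹) * (t * i * t⁻¹) by group, hc, hit]
      _ = t * (c' * i') * t⁻¹ := by rw [h]
      _ = _ := by rw [show t * (c' * i') * t⁻¹ = (t * c' * t⁻¹) * (t * i' * t⁻¹) by group, hc', hit']
  have h3 : i * i = i' * i' := by
    calc i * i = (c * i⁻¹)⁻¹ * (c * i) := by group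
      _ = i' * i' := by rw [h2, h]; group
  have h4 := eq_of_sq_eq hodd hi hi' h3
  subst h4
  exact ⟨mul_right_cancel h, rfl⟩

end Odd

/-- A subgroup of odd order normalised by a four-group `{1, x, y, xy}` lies in any subgroup
containing the three centralisers. -/
theorem le_of_four_group {H M : Subgroup G} (hodd : Odd (Nat.card H)) {x y : G}
    (hx : x * x = 1) (hy : y * y = 1) (hxy : x * y = y * x)
    (hnx : ∀ h ∈ H, x * h * x⁻¹ ∈ H) (hny : ∀ h ∈ H, y * h * y⁻¹ ∈ H)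
    (h1 : ∀ h ∈ H, x * h * x⁻¹ = h → h ∈ M) (h2 : ∀ h ∈ H, y * h * y⁻¹ = h → h ∈ M)
    (h3 : ∀ h ∈ H, (x * y) * h * (x * y)⁻¹ = h → h ∈ M) : H ≤ M := by
  intro o ho
  obtain ⟨c, hc, i, hi, hct, hit, rfl⟩ := exists_decomp hodd hx hnx ho
  obtain ⟨c', hc', j, hj, hct', hjt, rfl⟩ := exists_decomp hodd hy hny hi
  have hxc : x * c' * x⁻¹ = c'⁻¹ ∧ x * j * x⁻¹ = c' * j⁻¹ * c'⁻¹ := by
    refine decomp_unique (t := y) hodd (hnx j hj) (H.mul_mem (H.mul_mem hc' (H.inv_mem hj))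
      (H.inv_mem hc')) ?_ ?_ ?_ ?_ ?_
    · calc y * (x * c' * x⁻¹) * y⁻¹ = (y * x) * c' * (y * x)⁻¹ := by group
        _ = (x * y) * c' * (x * y)⁻¹ := by rw [hxy]
        _ = x * (y * c' * y⁻¹) * x⁻¹ := by group
        _ = _ := by rw [hct']
    · calc y * c'⁻¹ * y⁻¹ = (y * c' * y⁻¹)⁻¹ := by group
        _ = _ := by rw [hct']
    · calc y * (x * j * x⁻¹) * y⁻¹ = (y * x) * j * (y * x)⁻¹ := by group
        _ = (x * y) * j * (x * y)⁻¹ := by rw [hxy]
        _ = x * (y * j * y⁻¹) * x⁻¹ := by group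
        _ = _ := by rw [hjt]; group
    · calc y * (c' * j⁻¹ * c'⁻¹) * y⁻¹
          = (y * c' * y⁻¹) * (y * j * y⁻¹)⁻¹ * (y * c' * y⁻¹)⁻¹ := by group
        _ = _ := by rw [hct', hjt]; group
    · calc x * c' * x⁻¹ * (x * j * x⁻¹) = x * (c' * j) * x⁻¹ := by group
        _ = (c' * j)⁻¹ := hit
        _ = _ := by group
  obtain ⟨e, he, hee, k, hk⟩ := exists_sqrt hodd hc'
  have hey : y * e * y⁻¹ = e := by rw [hk, ← conj_pow, hct']
  have hex : x * e * x⁻¹ = e⁻¹ := by rw [hk, ← conj_pow, hxc.1, inv_pow]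
  have heM := h2 e he hey
  have hexy : (x * y) * e * (x * y)⁻¹ = e⁻¹ := by
    calc (x * y) * e * (x * y)⁻¹ = x * (y * e * y⁻¹) * x⁻¹ := by group
      _ = _ := by rw [hey, hex]
  have hjxy : (x * y) * j * (x * y)⁻¹ = c' * j * c'⁻¹ := by
    calc (x * y) * j * (x * y)⁻¹ = (x * (y * j * y⁻¹) * x⁻¹) := by group
      _ = (x * j * x⁻¹)⁻¹ := by rw [hjt]; group
      _ = _ := by rw [hxc.2]; group
  have hconj : (x * y) * (e * j * e⁻¹) * (x * y)⁻¹ = e * j * e⁻¹ := by
    calc (x * y) * (e * j * e⁻¹) * (x * y)⁻¹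
        = ((x * y) * e * (x * y)⁻¹) * ((x * y) * j * (x * y)⁻¹) * ((x * y) * e * (x * y)⁻¹)⁻¹ := by
          group
      _ = _ := by rw [hexy, hjxy, ← hee]; group
  have hjM : j ∈ M := by
    have := h3 _ (H.mul_mem (H.mul_mem he hj) (H.inv_mem he)) hconj
    rwa [M.mul_mem_cancel_right (M.inv_mem heM), M.mul_mem_cancel_left heM] at this
  exact M.mul_mem (h1 c hc hct) (M.mul_mem (h2 c' hc' hct') hjM)

/-- Two involutions with product of odd order are interchanged by an involution in the group they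
generate. -/
theorem exists_swap {s u : G} (hs : s * s = 1) (hs1 : s ≠ 1) (hu : u * u = 1)
    (hodd : Odd (orderOf (s * u))) :
    ∃ w : G, w ≠ 1 ∧ w * w = 1 ∧ w * s * w = u ∧ w * u * w = s ∧
      ∀ y : G, Commute y s → Commute y u → Commute y w := by
  have hsi := inv_eq_self_of_sq hs
  have hui := inv_eq_self_of_sq hu
  have hus : (s * u)⁻¹ = u * s := by rw [mul_inv_rev, hsi, hui]
  have hodd' : Odd (orderOf (u * s)) := by rwa [← hus, orderOf_inv]
  obtain ⟨m, hm⟩ := hodd'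
  set z := (u * s) ^ (m + 1) with hz
  have hzz : z * z = u * s := by
    rw [hz, ← pow_add, show m + 1 + (m + 1) = orderOf (u * s) + 1 by omega, pow_succ,
      pow_orderOf_eq_one, one_mul]
  have hszs : s * z * s⁻¹ = z⁻¹ := by
    rw [hz, ← conj_pow, ← inv_pow]
    congr 1
    calc s * (u * s) * s⁻¹ = s * u := by group
      _ = (u * s)⁻¹ := by rw [← hus, inv_inv]
  have hsz : z⁻¹ = s * z * s := by rw [← hszs, hsi]
  have hzs : z * s = s * z⁻¹ := by
    rw [hsz]; simp [← mul_assoc, hs]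
  have hw2 : z * s * (z * s) = 1 := by
    calc z * s * (z * s) = z * (s * z * s) := by group
      _ = 1 := by rw [← hsz]; group
  have hwu : z * s * s * (z * s) = u := by
    calc z * s * s * (z * s) = z * (s * s) * (z * s) := by group
      _ = (z * z) * s := by rw [hs]; group
      _ = u * (s * s) := by rw [hzz]; group
      _ = u := by rw [hs, mul_one]
  refine ⟨z * s, ?_, hw2, hwu, ?_, ?_⟩
  · intro h
    have hzeq : z = s := by rw [mul_eq_one_iff_eq_inv.1 h, hsi]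
    rw [hzeq, hs] at hzz
    have h1 : z = 1 := by rw [hz, ← hzz, one_pow]
    exact hs1 (hzeq ▸ h1)
  · calc z * s * u * (z * s) = z * s * (z * s * s * (z * s)) * (z * s) := by rw [hwu]
      _ = (z * s * (z * s)) * s * (z * s * (z * s)) := by group
      _ = s := by rw [hw2]; simp
  · intro y hys hyu
    exact (((hyu.mul_right hys).pow_right (m + 1))).mul_right hys

end Cfsg.Agent.Lib.RankOne.Involution
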