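import Mathlib
import Cfsg.Agent.Lib.Frobenius.PGroupOdd

/-!
# Odd `p`-groups with all stabilisers of non-zero vectors of one order
-/

namespace Cfsg.Agent.Lib.RankOne.HalfTransitive

variable {P E : Type*} [Group P] [Finite P] [AddCommGroup E] [Finite E] [DistribMulAction P E]
  [FaithfulSMul P E] {p q : ℕ} [Fact p.Prime]

/-- The action by `i.val`-th power. -/
def zpw (z : P) (i : ZMod p) : P := z ^ i.val

omit [Finite P] in
theorem zpw_add {z : P} (hz : z ^ p = 1) (i j : ZMod p) : zpw z (i + j) = zpw z i * zpw z j := by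
  rw [zpw, zpw, zpw, ← pow_add, ZMod.val_add, ← pow_eq_pow_mod _ hz]

omit [Finite P] in
theorem zpw_one (z : P) : zpw (p := p) z 1 = z := by
  haveI : Fact (1 < p) := ⟨(Fact.out (p := p.Prime)).one_lt⟩
  rw [zpw, ZMod.val_one, pow_one]

omit [Finite P] in
theorem zpw_zero (z : P) : zpw (p := p) z 0 = 1 := by simp [zpw]

omit [Finite P] in
theorem zpw_mul {z : P} (hz : z ^ p = 1) (i j : ZMod p) : zpw z (i * j) = zpw z i ^ j.val := by
  rw [zpw, zpw, ← pow_mul, ZMod.val_mul, ← pow_eq_pow_mod _ hz]

/-- The averaging map of a cyclic subgroup of order `p`. -/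
def avg (b : P) (v : E) : E := ∑ j : ZMod p, zpw b j • v

omit [Finite P] [Finite E] [FaithfulSMul P E] in
theorem smul_avg {b : P} (hb : b ^ p = 1) (v : E) : b • avg (p := p) b v = avg (p := p) b v := by
  rw [avg, Finset.smul_sum]
  refine Fintype.sum_equiv (Equiv.addLeft 1) _ _ fun j => ?_
  rw [← mul_smul, Equiv.coe_addLeft, zpw_add hb, zpw_one]

variable (hp2 : p ≠ 2) (hP : IsPGroup p P) (hq : q.Prime) (hpq : p ≠ q) (hE : ∀ e : E, q • e = 0)
  (hconst : ∀ a b : E, a ≠ 0 → b ≠ 0 →
    Nat.card (MulAction.stabilizer P a) = Nat.card (MulAction.stabilizer P b))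

omit [Finite P] [DistribMulAction P E] [FaithfulSMul P E] in
include hq hpq hE in
theorem eq_zero_of_psmul {v : E} (hv : p • v = 0) : v = 0 := by
  have h1 : addOrderOf v ∣ Nat.gcd p q :=
    Nat.dvd_gcd (addOrderOf_dvd_of_nsmul_eq_zero hv) (addOrderOf_dvd_of_nsmul_eq_zero (hE v))
  rw [(Nat.coprime_primes (Fact.out) hq).2 hpq, Nat.dvd_one, AddMonoid.addOrderOf_eq_one_iff] at h1
  exact h1

omit [Finite P] [Finite E] [FaithfulSMul P E] in
theorem avg_fixed {b : P} {v : E} (hv : b • v = v) : avg (p := p) b v = p • v := by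
  have h : ∀ n : ℕ, b ^ n • v = v := fun n => by
    induction n with
    | zero => simp
    | succ n ih => rw [pow_succ, mul_smul, hv, ih]
  simp [avg, zpw, h]

omit [Finite E] [FaithfulSMul P E] in
include hconst in
theorem stab_eq {u u' : E} (hu : u ≠ 0) (hu' : u' ≠ 0) (hv : u + u' ≠ 0)
    (h : ∀ g : P, g • (u + u') = u + u' → g • u = u) {g : P} (hg : g • u = u) : g • u' = u' := by
  have hle : MulAction.stabilizer P (u + u') ≤ MulAction.stabilizer P u := fun g hg => h g hg
  have he := Subgroup.eq_of_le_of_card_ge hle (hconst _ _ hu hv).le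
  have hg' : g ∈ MulAction.stabilizer P (u + u') := he ▸ (show g ∈ MulAction.stabilizer P u from hg)
  rw [MulAction.mem_stabilizer_iff, smul_add, hg] at hg'
  exact add_left_cancel hg'

include hq hpq hE hconst in
theorem central_fpf {z : P} (hz : z ^ p = 1) (hz1 : z ≠ 1) (hc : ∀ g, g * z = z * g) {u : E}
    (hu : z • u = u) : u = 0 := by
  by_contra hu0
  obtain ⟨w, hw⟩ : ∃ w : E, z • w ≠ w := by
    by_contra h
    push Not at h
    exact hz1 (eq_of_smul_eq_smul (α := E) fun w => by rw [h w, one_smul])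
  set u' := z • w - w with hu'
  have hu'0 : u' ≠ 0 := sub_ne_zero.2 hw
  have avgu' : avg (p := p) z u' = 0 := by
    have : avg (p := p) z (z • w) = z • avg (p := p) z w := by
      simp only [avg, Finset.smul_sum, ← mul_smul, hc]
    simp only [avg, hu', smul_sub, Finset.sum_sub_distrib]
    exact sub_eq_zero.2 (this.trans (smul_avg hz w))
  have hinj : ∀ a : E, z • a = a → avg (p := p) z a = 0 → a = 0 := fun a ha h =>
    eq_zero_of_psmul hq hpq hE (by rwa [avg_fixed ha] at h)
  have hv0 : u + u' ≠ 0 := fun h => by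
    have h' : z • u' = u' := by rw [eq_neg_of_add_eq_zero_right h, smul_neg, hu]
    exact hu'0 (hinj u' h' avgu')
  have key : ∀ g : P, g • (u + u') = u + u' → g • u = u := by
    intro g hg
    refine sub_eq_zero.1 (hinj _ (by rw [smul_sub, ← mul_smul, ← hc, mul_smul, hu]) ?_)
    have e : g • u - u = u' - g • u' := by
      rw [smul_add] at hg
      calc g • u - u = g • u + g • u' - u - g • u' := by abel
        _ = _ := by rw [hg]; abel
    have avg_smul : avg (p := p) z (g • u') = g • avg (p := p) z u' := by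
      simp only [avg, Finset.smul_sum, ← mul_smul]
      refine Finset.sum_congr rfl fun j _ => ?_
      have := ((show Commute g z from hc g).pow_right j.val).eq
      show (zpw z j * g) • u' = (g * zpw z j) • u'
      rw [zpw, this]
    rw [e]
    simp only [avg, smul_sub, Finset.sum_sub_distrib]
    show avg (p := p) z u' - avg (p := p) z (g • u') = 0
    rw [avg_smul, avgu', smul_zero, sub_zero]
  exact hu'0 (hinj u' (stab_eq hconst hu0 hu'0 hv0 key hu) avgu')

include hp2 hP hq hpq hE hconst in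
theorem isCyclic_of_const [Nontrivial E] : IsCyclic P := by
  classical
  by_contra hnc
  have hpp : p.Prime := Fact.out
  obtain ⟨A, hAn, ⟨hAc, hAp⟩, hcard⟩ :=
    Cfsg.Agent.Lib.Frobenius.PGroupOdd.exists_normal_elemAb hP hp2 hnc
  haveI := hAn
  haveI : Nontrivial A := Finite.one_lt_card_iff_nontrivial.1 (hcard ▸ Nat.one_lt_pow two_ne_zero hpp.one_lt)
  -- a central element of `A` of order `p`
  obtain ⟨z, hzA, hz1, hc⟩ : ∃ z ∈ A, z ≠ 1 ∧ ∀ g, g * z = z * g := by
    have h1 : (Nat.card (MulAction.fixedPoints (ConjAct P) A) ≡ Nat.card A [MOD p]) :=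
      ((hP.of_equiv ConjAct.toConjAct).card_modEq_card_fixedPoints A).symm
    have h2 : p ∣ Nat.card (MulAction.fixedPoints (ConjAct P) A) :=
      Nat.modEq_zero_iff_dvd.1 (h1.trans (Nat.modEq_zero_iff_dvd.2 (hcard ▸ dvd_pow_self p two_ne_zero)))
    have hone : (1 : A) ∈ MulAction.fixedPoints (ConjAct P) A := fun g => smul_one g
    have hpos : 0 < Nat.card (MulAction.fixedPoints (ConjAct P) A) :=
      Nat.card_pos_iff.2 ⟨⟨⟨1, hone⟩⟩, inferInstance⟩
    haveI : Nontrivial (MulAction.fixedPoints (ConjAct P) A) :=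
      Finite.one_lt_card_iff_nontrivial.1 (hpp.one_lt.trans_le (Nat.le_of_dvd hpos h2))
    obtain ⟨⟨z, hz⟩, hz'⟩ := exists_ne (⟨1, hone⟩ : MulAction.fixedPoints (ConjAct P) A)
    refine ⟨z, z.2, fun h => hz' (Subtype.ext (Subtype.ext h)), fun g => ?_⟩
    have := congrArg Subtype.val (hz (ConjAct.toConjAct g))
    rw [ConjAct.Subgroup.val_conj_smul, ConjAct.toConjAct_smul, mul_inv_eq_iff_eq_mul] at this
    exact this
  have hzp : z ^ p = 1 := hAp z hzA
  -- an element of `A` outside `⟨z⟩`
  have hord : ∀ x ∈ A, x ≠ 1 → orderOf x = p := fun x hx hx1 => orderOf_eq_prime (hAp x hx) hx1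
  obtain ⟨a, haA, haz⟩ : ∃ a ∈ A, a ∉ Subgroup.zpowers z := by
    by_contra h
    push Not at h
    have h1 : Nat.card A ∣ Nat.card (Subgroup.zpowers z) := Subgroup.card_dvd_of_le h
    rw [hcard, Nat.card_zpowers, hord z hzA hz1] at h1
    have := Nat.le_of_dvd hpp.pos h1
    nlinarith [hpp.two_le]
  have comm : ∀ x ∈ A, ∀ y ∈ A, x * y = y * x := fun x hx y hy => by
    have := hAc
    exact congrArg Subtype.val (mul_comm' (⟨x, hx⟩ : A) ⟨y, hy⟩)
  -- the maps `π b i`
  let π : P → ZMod p → E → E := fun b i v => avg (p := p) (b * zpw z i) v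
  have zA : ∀ i : ZMod p, zpw z i ∈ A := fun i => A.pow_mem hzA _
  have hterm : ∀ b ∈ A, ∀ i j : ZMod p, zpw (b * zpw z i) j = zpw b j * zpw z (i * j) := by
    intro b hb i j
    rw [zpw, (show Commute b (zpw z i) from comm b hb _ (zA i)).mul_pow, zpw_mul hzp]
    rfl
  have zfix : ∀ v : E, z • v = v → v = 0 := fun v => central_fpf hq hpq hE hconst hzp hz1 hc
  have sumz : ∀ (j : ZMod p) (v : E), j ≠ 0 → ∑ i : ZMod p, zpw z (i * j) • v = 0 := fun j v hj => by
    rw [show ∑ i : ZMod p, zpw z (i * j) • v = avg (p := p) z v from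
      Fintype.sum_equiv (Equiv.mulRight₀ j hj) _ _ fun i => rfl]
    exact zfix _ (smul_avg hzp v)
  obtain ⟨u₀, hu₀⟩ := exists_ne (0 : E)
  obtain ⟨i₀, hi₀⟩ : ∃ i, π a i u₀ ≠ 0 := by
    by_contra h
    push Not at h
    apply hu₀
    refine eq_zero_of_psmul hq hpq hE ?_
    have h2 : ∑ i : ZMod p, π a i u₀ = p • u₀ := by
      simp only [π, avg]
      rw [Finset.sum_comm, Finset.sum_eq_single (0 : ZMod p)]
      · simp [hterm a haA, zpw_zero]
      · intro j _ hj
        simp only [hterm a haA, mul_smul, ← Finset.smul_sum, sumz j u₀ hj, smul_zero]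
      · simp
    rw [← h2]
    exact Finset.sum_eq_zero fun i _ => h i
  obtain ⟨b, hb⟩ : ∃ b, b = a * zpw z i₀ := ⟨_, rfl⟩
  set u := π a i₀ u₀ with hu
  have hbA : b ∈ A := hb ▸ A.mul_mem haA (zA _)
  have hbz : b ∉ Subgroup.zpowers z := fun h => haz (by
    have := Subgroup.mul_mem _ h (Subgroup.inv_mem _ (Subgroup.pow_mem _ (Subgroup.mem_zpowers z) i₀.val))
    rwa [show (z ^ i₀.val) = zpw z i₀ from rfl, hb, mul_inv_cancel_right] at this)
  have hbp : b ^ p = 1 := hAp b hbA
  have hbu : b • u = u := by rw [hb]; exact smul_avg (hb ▸ hbp) u₀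
  have hb1 : b ≠ 1 := fun h => hbz (h ▸ Subgroup.one_mem _)
  -- every element of `A` is `b ^ i z ^ j`
  have span : ∀ x ∈ A, ∃ i j : ZMod p, x = zpw b i * zpw z j := by
    let f : ZMod p × ZMod p → A := fun ij => ⟨zpw b ij.1 * zpw z ij.2, A.mul_mem (A.pow_mem hbA _) (zA _)⟩
    have hf : Function.Injective f := by
      rintro ⟨i, j⟩ ⟨i', j'⟩ h
      have h' : zpw b i * zpw z j = zpw b i' * zpw z j' := congrArg Subtype.val h
      have h2 : zpw b (i - i') = zpw z (j' - j) := by
        have e1 := zpw_add hbp (i - i') i'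
        have e2 := zpw_add hzp (j' - j) j
        rw [sub_add_cancel] at e1 e2
        rw [e1, e2] at h'
        have c1 := comm _ (show zpw b i' ∈ A from A.pow_mem hbA _) _ (zA (j' - j))
        rw [← mul_assoc (zpw b i'), c1] at h'
        exact mul_right_cancel (mul_right_cancel h')
      have hii : i = i' := by
        by_contra hne
        apply hbz
        have h3 : zpw b (1 : ZMod p) ∈ Subgroup.zpowers z := by
          rw [← mul_inv_cancel₀ (sub_ne_zero.2 hne), zpw_mul hbp, h2]
          exact Subgroup.pow_mem _ (Subgroup.pow_mem _ (Subgroup.mem_zpowers z) _) _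
        rwa [zpw_one] at h3
      subst hii
      rw [sub_self, zpw_zero, eq_comm, zpw] at h2
      have h3 := orderOf_dvd_of_pow_eq_one h2
      rw [hord z hzA hz1] at h3
      have hv0 := Nat.eq_zero_of_dvd_of_lt h3 (ZMod.val_lt _)
      rw [ZMod.val_eq_zero, sub_eq_zero] at hv0
      exact Prod.ext rfl hv0.symm
    intro x hx
    have hbij : Function.Bijective f := by
      letI := Fintype.ofFinite A
      refine (Fintype.bijective_iff_injective_and_card f).2 ⟨hf, ?_⟩
      rw [← Nat.card_eq_fintype_card, ← Nat.card_eq_fintype_card, hcard]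
      simp [Nat.card_prod, sq]
    obtain ⟨⟨i, j⟩, hij⟩ := hbij.2 ⟨x, hx⟩
    exact ⟨i, j, (congrArg Subtype.val hij).symm⟩
  -- conjugation shifts `b` by a power of `z`
  have shift : ∀ g : P, ∃ k : ZMod p, g * b * g⁻¹ = b * zpw z k := by
    intro g
    obtain ⟨l, k, hlk⟩ := span (g * b * g⁻¹) (hAn.conj_mem b hbA g)
    have hiter : ∀ n : ℕ, ∃ k' : ZMod p, g ^ n * b * (g ^ n)⁻¹ = zpw b (l ^ n) * zpw z k' := by
      intro n
      induction n with
      | zero => exact ⟨0, by simp [zpw_zero, zpw_one]⟩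
      | succ n ih =>
        obtain ⟨k', hk'⟩ := ih
        refine ⟨k * (l ^ n) + k', ?_⟩
        have hgz : Commute g (zpw z k') := (show Commute g z from hc g).pow_right _
        calc g ^ (n + 1) * b * (g ^ (n + 1))⁻¹ = g * (g ^ n * b * (g ^ n)⁻¹) * g⁻¹ := by
              rw [pow_succ']; group
          _ = (g * b * g⁻¹) ^ (l ^ n).val * zpw z k' := by
              rw [hk', conj_pow]
              show g * (zpw b (l ^ n) * zpw z k') * g⁻¹ = g * zpw b (l ^ n) * g⁻¹ * zpw z k'
              rw [show g * (zpw b (l ^ n) * zpw z k') * g⁻¹ = g * zpw b (l ^ n) * (zpw z k' * g⁻¹) by group,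
                hgz.inv_left.symm.eq]
              group
          _ = _ := by
              rw [hlk, (show Commute (zpw b l) (zpw z k) from comm _ (A.pow_mem hbA _) _ (zA _)).mul_pow,
                ← zpw_mul hbp, ← zpw_mul hzp, zpw_add hzp, pow_succ', mul_assoc]
    obtain ⟨n, hn⟩ := hP g
    obtain ⟨k', hk'⟩ := hiter (p ^ n)
    rw [hn, inv_one, one_mul, mul_one, ZMod.pow_card_pow] at hk'
    have hl : l = 1 := by
      by_contra hne
      apply hbz
      have h3 : zpw b (1 - l) ∈ Subgroup.zpowers z := by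
        have := zpw_add hbp (1 - l) l
        rw [sub_add_cancel, zpw_one] at this
        have h4 : zpw b (1 - l) = zpw z k' := by
          have h5 : zpw b l * zpw z k' = zpw b (1 - l) * zpw b l := hk'.symm.trans this
          rw [comm _ (show zpw b l ∈ A from A.pow_mem hbA _) _ (zA k')] at h5
          exact (mul_right_cancel h5).symm
        rw [h4]
        exact Subgroup.pow_mem _ (Subgroup.mem_zpowers z) _
      have h6 : zpw b (1 : ZMod p) ∈ Subgroup.zpowers z := by
        rw [← mul_inv_cancel₀ (sub_ne_zero.2 (Ne.symm hne)), zpw_mul hbp]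
        exact Subgroup.pow_mem _ h3 _
      rwa [zpw_one] at h6
    exact ⟨k, by rw [hlk, hl, zpw_one]⟩
  -- `b` is not central
  obtain ⟨g, hg⟩ : ∃ g : P, g * b ≠ b * g := by
    by_contra h
    push Not at h
    exact hi₀ (central_fpf hq hpq hE hconst hbp hb1 h hbu)
  obtain ⟨m, hm⟩ := shift g
  have hm0 : m ≠ 0 := fun h => hg (by
    rw [h, zpw_zero, mul_one, mul_inv_eq_iff_eq_mul] at hm; exact hm)
  set u' := g • u with hu'
  have hb'u' : (b * zpw z m) • u' = u' := by
    rw [← hm, hu', ← mul_smul, inv_mul_cancel_right, mul_smul, hbu]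
  -- the projections
  have πfix : ∀ {i₁ : ZMod p} {v : E}, (b * zpw z i₁) • v = v → ∀ i,
      π b i v = if i = i₁ then p • v else 0 := by
    intro i₁ v hv i
    split_ifs with h
    · subst h
      exact avg_fixed hv
    · have e : π b i v = avg (p := p) (zpw z (i - i₁)) v := by
        simp only [π, avg]
        refine Finset.sum_congr rfl fun j _ => ?_
        have hfix : zpw (b * zpw z i₁) j • v = v := by
          show (b * zpw z i₁) ^ j.val • v = v
          exact MulAction.mem_stabilizer_iff.1 (Subgroup.pow_mem _ (MulAction.mem_stabilizer_iff.2 hv) _)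
        conv_rhs => rw [← hfix, ← mul_smul]
        congr 1
        rw [hterm b hbA, hterm b hbA, ← mul_assoc, show zpw (zpw z (i - i₁)) j = zpw z ((i - i₁) * j) from
          (zpw_mul hzp _ _).symm, ← comm _ (show zpw b j ∈ A from A.pow_mem hbA _) _ (zA _), mul_assoc, ← zpw_add hzp]
        congr 2
        ring
      rw [e]
      simp only [avg]
      rw [show ∑ j : ZMod p, zpw (zpw z (i - i₁)) j • v = ∑ j : ZMod p, zpw z (j * (i - i₁)) • v from
        Finset.sum_congr rfl fun j _ => by rw [mul_comm, zpw_mul hzp]; rfl]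
      exact sumz _ v (sub_ne_zero.2 h)
  have hbu0 : (b * zpw z (0 : ZMod p)) • u = u := by rw [zpw_zero, mul_one, hbu]
  have hu'0 : u' ≠ 0 := (smul_ne_zero_iff_ne g).2 hi₀
  have πadd : ∀ i v w, π b i (v + w) = π b i v + π b i w := fun i v w => by
    simp [π, avg, smul_add, Finset.sum_add_distrib]
  have h2m : (2 : ZMod p) * m ≠ 0 := by
    refine mul_ne_zero ?_ hm0
    intro h2
    have h3 : ((2 : ℕ) : ZMod p) = 0 := by simpa using h2
    exact hp2 ((Nat.prime_dvd_prime_iff_eq hpp Nat.prime_two).1 ((ZMod.natCast_eq_zero_iff 2 p).1 h3))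
  have hv : u + u' ≠ 0 := by
    intro h
    have := congrArg (π b 0) h
    rw [πadd, πfix hbu0, πfix hb'u', if_pos rfl, if_neg (Ne.symm hm0), add_zero] at this
    exact hi₀ (eq_zero_of_psmul hq hpq hE (this.trans (by simp [π, avg])))
  have key : ∀ h : P, h • (u + u') = u + u' → h • u = u := by
    intro h hh
    obtain ⟨k, hk⟩ := shift h
    have equi : ∀ i v, π b (i + k) (h • v) = h • π b i v := by
      intro i v
      have hconj : b * zpw z (i + k) = h * (b * zpw z i) * h⁻¹ := by
        have hz' : Commute h (zpw z i) := (show Commute h z from hc h).pow_right _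
        rw [show h * (b * zpw z i) * h⁻¹ = h * b * (zpw z i * h⁻¹) by group, hz'.inv_left.symm.eq,
          show h * b * (h⁻¹ * zpw z i) = h * b * h⁻¹ * zpw z i by group, hk, mul_assoc, ← zpw_add hzp,
          add_comm k i]
      simp only [π, avg, Finset.smul_sum, hconj, ← mul_smul]
      refine Finset.sum_congr rfl fun j _ => ?_
      congr 1
      rw [zpw, conj_pow, inv_mul_cancel_right]
      rfl
    have e0 := equi 0 (u + u')
    have em := equi m (u + u')
    rw [hh, πadd, πadd, πfix hbu0, πfix hb'u', πfix hbu0, πfix hb'u', if_pos rfl,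
      if_neg (Ne.symm hm0), add_zero, zero_add] at e0
    rw [hh, πadd, πadd, πfix hbu0, πfix hb'u', πfix hbu0, πfix hb'u', if_pos rfl, if_neg hm0,
      zero_add] at em
    have pinj : ∀ x y : E, p • x = p • y → x = y := fun x y hxy =>
      sub_eq_zero.1 (eq_zero_of_psmul hq hpq hE (by rw [smul_sub, hxy, sub_self]))
    have hk0 : k = 0 := by
      by_contra hk0
      rw [if_neg hk0] at e0
      by_cases hkm : k = m
      · subst hkm
        rw [if_neg (by rwa [← two_mul]), if_neg (fun e => hk0 (by simpa using e)), add_zero, eq_comm,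
          smul_eq_zero_iff_eq] at em
        exact hu'0 (eq_zero_of_psmul hq hpq hE em)
      · rw [if_neg hkm, add_zero, eq_comm, smul_eq_zero_iff_eq] at e0
        exact hi₀ (eq_zero_of_psmul hq hpq hE e0)
    rw [hk0, if_pos rfl, if_neg (Ne.symm hm0), add_zero] at e0
    refine pinj _ _ ?_
    rw [← smul_comm h p u]
    exact e0.symm
  have hbu' : b • u' = u' := stab_eq hconst hi₀ hu'0 hv key hbu
  have := πfix (i₁ := 0) (by rw [zpw_zero, mul_one]; exact hbu') m
  rw [if_neg hm0, πfix hb'u', if_pos rfl] at this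
  exact hu'0 (eq_zero_of_psmul hq hpq hE this)

omit [Fact p.Prime] in
include hp2 hP hq hE hconst in
theorem cyclic_fpf [Fact p.Prime] :
    IsCyclic P ∧ ∀ g : P, g ≠ 1 → ∀ a : E, g • a = a → a = 0 := by
  classical
  have hpp : p.Prime := Fact.out
  rcases subsingleton_or_nontrivial E with hsub | hnt
  · have h1 : ∀ g : P, g = 1 := fun g => eq_of_smul_eq_smul (α := E) fun _ => Subsingleton.elim _ _
    exact ⟨⟨⟨1, fun g => ⟨0, by simp [h1 g]⟩⟩⟩, fun g hg => absurd (h1 g) hg⟩
  by_cases hpq : p = q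
  · subst hpq
    -- a non-zero fixed vector makes the group trivial
    have hdvd : p ∣ Nat.card E := by
      obtain ⟨e, he⟩ := exists_ne (0 : E)
      have := addOrderOf_eq_prime (hE e) he
      exact this ▸ addOrderOf_dvd_natCard e
    obtain ⟨v, hv, hv0⟩ := hP.exists_fixed_point_of_prime_dvd_card_of_fixed_point E hdvd
      (show (0 : E) ∈ MulAction.fixedPoints P E from fun g => smul_zero g)
    have h1 : ∀ g : P, g = 1 := fun g => eq_of_smul_eq_smul (α := E) fun w => by
      rw [one_smul]
      by_cases hw : w = 0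
      · rw [hw, smul_zero]
      · have htop : MulAction.stabilizer P v = ⊤ := eq_top_iff.2 fun g _ => hv g
        have h := hconst w v hw (Ne.symm hv0)
        rw [htop, Subgroup.card_top] at h
        have hw' : MulAction.stabilizer P w = ⊤ := Subgroup.eq_top_of_card_eq _ h
        exact (hw' ▸ Subgroup.mem_top g : g ∈ MulAction.stabilizer P w)
    exact ⟨⟨⟨1, fun g => ⟨0, by simp [h1 g]⟩⟩⟩, fun g hg => absurd (h1 g) hg⟩
  have hcyc := isCyclic_of_const hp2 hP hq hpq hE hconst
  refine ⟨hcyc, fun g hg a hga => ?_⟩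
  by_contra ha
  -- every stabiliser then contains the element of order `p`
  have hpos : ∀ w : E, w ≠ 0 → p ∣ Nat.card (MulAction.stabilizer P w) := by
    intro w hw
    rw [hconst w a hw ha]
    obtain ⟨n, hn⟩ := IsPGroup.iff_card.1 (hP.to_subgroup (MulAction.stabilizer P a))
    rw [hn]
    refine dvd_pow_self p fun h0 => ?_
    rw [h0, pow_zero, Subgroup.card_eq_one] at hn
    exact hg ((Subgroup.eq_bot_iff_forall _).1 hn g hga)
  obtain ⟨x, hx⟩ := exists_prime_orderOf_dvd_card' (G := MulAction.stabilizer P a) p (hpos a ha)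
  have hx1 : (x : P) ≠ 1 := fun h => hpp.ne_one (by rw [← hx, ← Subgroup.orderOf_coe, h, orderOf_one])
  refine hx1 (eq_of_smul_eq_smul (α := E) fun w => ?_)
  rw [one_smul]
  by_cases hw : w = 0
  · rw [hw, smul_zero]
  · obtain ⟨y, hy⟩ := exists_prime_orderOf_dvd_card' (G := MulAction.stabilizer P w) p (hpos w hw)
    haveI := hcyc
    have h : Subgroup.zpowers (x : P) = Subgroup.zpowers (y : P) := by
      letI := Fintype.ofFinite P
      have hroot : ∀ w : P, orderOf w = p → (Subgroup.zpowers w : Set P).toFinset =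
          Finset.univ.filter fun u : P => u ^ p = 1 := by
        intro w hw'
        refine Finset.eq_of_subset_of_card_le (fun u hu => ?_) ?_
        · rw [Set.mem_toFinset, SetLike.mem_coe] at hu
          rw [Finset.mem_filter]
          refine ⟨Finset.mem_univ _, orderOf_dvd_iff_pow_eq_one.1 ?_⟩
          exact hw' ▸ orderOf_dvd_of_mem_zpowers hu
        · rw [Set.toFinset_card, ← Nat.card_eq_fintype_card]
          refine (IsCyclic.card_pow_eq_one_le hpp.pos).trans ?_
          exact (hw'.symm.trans (Nat.card_zpowers w).symm).le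
      have h1 := (hroot _ ((Subgroup.orderOf_coe x).trans hx)).trans
        (hroot _ ((Subgroup.orderOf_coe y).trans hy)).symm
      exact SetLike.coe_injective (Set.toFinset_inj.1 h1)
    have hmem : (x : P) ∈ MulAction.stabilizer P w :=
      Subgroup.zpowers_le.2 y.2 (h ▸ Subgroup.mem_zpowers (x : P))
    exact hmem

end Cfsg.Agent.Lib.RankOne.HalfTransitive
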